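import Cfsg.Agent.Lib.PGroups.CoprimeLayer.Span

/-!
A quasisimple subgroup commuting with its distinct conjugates under `R C_G(R)` is a component of
`C_G(R)`, a component of `G`, or lies in an `R`-invariant component of `G`.
-/

set_option autoImplicit false
set_option linter.unusedSectionVars false
set_option linter.style.haveILetI false

namespace Cfsg.Agent.Lib.PGroups.CoprimeLayer

open Subgroup
open Cfsg.Agent.Components.Basic
open scoped commutatorElement Pointwise

universe u

variable {X : Type u} [Group X]

/-- The product of all components of `G`. -/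
def layerOf (G : Subgroup X) : Subgroup X := sSup {L | CompIn G L}

theorem map_layer_le_layerOf (G : Subgroup X) :
    (Cfsg.layer G).map G.subtype ≤ layerOf G :=
  Subgroup.map_le_iff_le_comap.mpr
    (layer_le fun _ hL => Subgroup.map_le_iff_le_comap.mp (le_sSup (CompIn.mk' hL)))

theorem CompIn.layerOf_le_normalizer [Finite X] {G L : Subgroup X} (hL : CompIn G L) :
    layerOf G ≤ normalizer (L : Set X) := by
  refine sSup_le fun M hM => ?_
  by_cases h : M = L
  · rw [h]; exact le_normalizer
  · exact (Subgroup.commutator_eq_bot_iff_le_centralizer.mp (hM.commute hL h)).trans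
      (centralizer_le_normalizer _)

theorem CompIn.layerOf_le_sup [Finite X] {G L : Subgroup X} (hL : CompIn G L) :
    layerOf G ≤ L ⊔ centralizer (L : Set X) := by
  refine sSup_le fun M hM => ?_
  by_cases h : M = L
  · rw [h]; exact le_sup_left
  · exact (Subgroup.commutator_eq_bot_iff_le_centralizer.mp (hM.commute hL h)).trans le_sup_right

theorem CompIn.isQuasisimple {G L : Subgroup X} (hL : CompIn G L) : Cfsg.IsQuasisimple L :=
  (isQuasisimple_congr (Subgroup.subgroupOfEquivOfLe hL.1)).mp hL.2.2

/-- A perfect subgroup of the layer centralising all components outside a set lies in the product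
of that set. -/
theorem le_of_centralizes_others [Finite X] {G K : Subgroup X} (hK : ⁅K, K⁆ = K)
    (hKL : K ≤ layerOf G) (S : Set (Subgroup X)) (hS : ∀ L ∈ S, CompIn G L)
    (hc : ∀ L, CompIn G L → L ∉ S → K ≤ centralizer (L : Set X)) : K ≤ sSup S := by
  set T := sSup S with hT
  set U := sSup {L | CompIn G L ∧ L ∉ S} with hU
  have hUT : U ≤ centralizer (T : Set X) := sSup_le fun L hL =>
    Subgroup.le_centralizer_iff.mp (sSup_le fun M hM =>
      Subgroup.commutator_eq_bot_iff_le_centralizer.mp
        ((hS M hM).commute hL.1 fun h => hL.2 (h ▸ hM)))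
  have hKU : K ≤ centralizer (U : Set X) :=
    Subgroup.le_centralizer_iff.mp (sSup_le fun L hL => Subgroup.le_centralizer_iff.mp (hc L hL.1 hL.2))
  have hLle : layerOf G ≤ T ⊔ U := sSup_le fun L hL => by
    by_cases h : L ∈ S
    · exact (le_sSup h).trans le_sup_left
    · exact (le_sSup (show L ∈ {L | CompIn G L ∧ L ∉ S} from ⟨hL, h⟩)).trans le_sup_right
  have hdec : ∀ k ∈ K, ∃ t ∈ T, ∃ u ∈ U, u ∈ centralizer (U : Set X) ∧ k = t * u := by
    intro k hk
    obtain ⟨t, ht, u, hu, rfl⟩ := (Coprime.mem_sup_of_le_normalizer
      (hUT.trans (centralizer_le_normalizer _))).mp (hLle (hKL hk))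
    refine ⟨t, ht, u, hu, ?_, rfl⟩
    have htU : t ∈ centralizer (U : Set X) := Subgroup.le_centralizer_iff.mp hUT ht
    exact (mul_mem_cancel_left htU).mp (hKU hk)
  rw [← hK, Subgroup.commutator_le]
  intro k hk k' hk'
  obtain ⟨t, ht, u, hu, huU, rfl⟩ := hdec k hk
  obtain ⟨t', ht', u', hu', -, rfl⟩ := hdec k' hk'
  have c1 : Commute t u := (Subgroup.mem_centralizer_iff.mp (hUT hu) t ht)
  have c2 : Commute t' u' := (Subgroup.mem_centralizer_iff.mp (hUT hu') t' ht')
  have c3 : Commute t u' := (Subgroup.mem_centralizer_iff.mp (hUT hu') t ht)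
  have c4 : Commute t' u := (Subgroup.mem_centralizer_iff.mp (hUT hu) t' ht')
  have c5 : Commute u u' := (Subgroup.mem_centralizer_iff.mp huU u' hu').symm
  have : ⁅t * u, t' * u'⁆ = ⁅t, t'⁆ := by
    have e1 : ⁅u, t' * u'⁆ = 1 :=
      commutatorElement_eq_one_iff_commute.mpr (c4.symm.mul_right c5)
    have e2 : ⁅t, u'⁆ = 1 := commutatorElement_eq_one_iff_commute.mpr c3
    rw [commutatorElement_mul_left_eq_conj_mul, e1, mul_one, mul_inv_cancel, one_mul,
      commutatorElement_def, commutatorElement_def, mul_inv_rev]
    rw [show t * (t' * u') * t⁻¹ * (u'⁻¹ * t'⁻¹) = t * t' * (u' * t⁻¹ * u'⁻¹) * t'⁻¹ by group,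
      (c3.inv_left).symm.eq, mul_inv_cancel_right]
  rw [this]
  exact mul_mem (mul_mem (mul_mem ht ht') (inv_mem ht)) (inv_mem ht')

/-- `(L ⊓ (K ⊔ C(L)))`: what `K` induces on `L`. -/
def trace (K L : Subgroup X) : Subgroup X := L ⊓ (centralizer (L : Set X) ⊔ K)

theorem exists_trace_mul {K L : Subgroup X} (hKd : K ≤ L ⊔ centralizer (L : Set X)) {k : X}
    (hk : k ∈ K) : ∃ l ∈ trace K L, ∃ z ∈ centralizer (L : Set X), k = l * z := by
  obtain ⟨l, hl, z, hz, rfl⟩ := exists_mul_centralizer hKd hk
  refine ⟨l, ⟨hl, ?_⟩, z, hz, rfl⟩
  simpa using mul_mem (Subgroup.mem_sup_right hk : l * z ∈ centralizer (L : Set X) ⊔ K)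
    (Subgroup.mem_sup_left (inv_mem hz))

/-- If two groups induce commuting groups on `L`, the traces commute modulo the centre. -/
theorem trace_commutator {K K' L : Subgroup X} (hK : K ≤ normalizer (L : Set X))
    (hK' : K' ≤ normalizer (L : Set X)) (hc : ⁅K, K'⁆ = ⊥) :
    ⁅trace K L, trace K' L⁆ ≤ L ⊓ centralizer (L : Set X) := by
  refine le_inf ((Subgroup.commutator_mono inf_le_left inf_le_left).trans
    (Subgroup.commutator_le_self L)) ((Subgroup.commutator_mono inf_le_right inf_le_right).trans ?_)
  refine (commutator_sup_le (normalizer_le_normalizer_centralizer' hK)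
    (normalizer_le_normalizer_centralizer' hK')).trans ?_
  rw [hc, sup_bot_eq]

theorem trace_mono_eq {K L : Subgroup X} (h : trace K L = L) : L ≤ centralizer (L : Set X) ⊔ K :=
  h.symm.le.trans inf_le_right

theorem conj_smul_centralizer (g : X) (L : Subgroup X) :
    MulAut.conj g • centralizer (L : Set X) =
      centralizer ((MulAut.conj g • L : Subgroup X) : Set X) := by
  ext y
  rw [Coprime.mem_conj_smul, Subgroup.mem_centralizer_iff, Subgroup.mem_centralizer_iff]
  constructor
  · intro h l hl
    rw [SetLike.mem_coe, Coprime.mem_conj_smul] at hl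
    have h2 := congrArg (fun t => g * t * g⁻¹) (h _ hl)
    simpa [mul_assoc] using h2
  · intro h l hl
    have h2 := congrArg (fun t => g⁻¹ * t * g)
      (h (g * l * g⁻¹) (Coprime.conj_mem_conj_smul hl))
    simpa [mul_assoc] using h2

theorem pow_conj_succ (a x : X) (i : ℕ) :
    a * (a ^ i * x * (a ^ i)⁻¹) * a⁻¹ = a ^ (i + 1) * x * (a ^ (i + 1))⁻¹ := by
  rw [pow_succ']; group

/-- An element of `L` extends to a fixed element of the orbit product. -/
theorem exists_fixed_extension [Finite X] {G L : Subgroup X} {a : X} {r : ℕ} (hr : r ≠ 0)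
    (har : a ^ r = 1) (hL : CompIn G L) (ha : a ∈ normalizer (G : Set X))
    (hmov : ∀ i, 0 < i → i < r → MulAut.conj (a ^ i) • L ≠ L) {x : X} (hx : x ∈ L) :
    ∃ c, Commute a c ∧ c ∈ sSup (Set.range fun i : ℕ => MulAut.conj (a ^ i) • L) ∧
      x⁻¹ * c ∈ centralizer (L : Set X) := by
  let f : ℕ → X := fun i => a ^ i * x * (a ^ i)⁻¹
  let T : ℕ → X := fun m => ((List.range m).map fun i => f (i + 1)).prod
  have hTsucc : ∀ m, T (m + 1) = T m * f (m + 1) := fun m => by
    simp [T, List.range_succ]
  let O := sSup (Set.range fun i : ℕ => MulAut.conj (a ^ i) • L)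
  have hf : ∀ i, f i ∈ MulAut.conj (a ^ i) • L := fun i => by
    show a ^ i * x * (a ^ i)⁻¹ ∈ _
    exact Coprime.conj_mem_conj_smul hx
  have hfO : ∀ i, f i ∈ O := fun i => le_sSup (Set.mem_range_self (f := fun i : ℕ =>
    MulAut.conj (a ^ i) • L) i) (hf i)
  have hTO : ∀ m, T m ∈ O := by
    intro m
    induction m with
    | zero => simp [T]
    | succ m ih => rw [hTsucc]; exact mul_mem ih (hfO _)
  have hTC : ∀ m, m < r → T m ∈ centralizer (L : Set X) := by
    intro m
    induction m with
    | zero => intro _; simp [T]
    | succ m ih =>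
      intro hm
      rw [hTsucc]
      refine mul_mem (ih (by omega)) ?_
      exact Subgroup.commutator_eq_bot_iff_le_centralizer.mp
        ((hL.conj (pow_mem ha _)).commute hL (hmov (m + 1) (by omega) hm)) (hf _)
  have hconj : ∀ m, a * (x * T m) * a⁻¹ = T (m + 1) := by
    intro m
    induction m with
    | zero => simp [T, f]
    | succ m ih =>
      rw [hTsucc m, hTsucc (m + 1), ← ih]
      show _ = _ * (a ^ (m + 1 + 1) * x * (a ^ (m + 1 + 1))⁻¹)
      rw [← pow_conj_succ]
      show a * (x * (T m * (a ^ (m + 1) * x * (a ^ (m + 1))⁻¹))) * a⁻¹ = _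
      group
  obtain ⟨s, rfl⟩ := Nat.exists_eq_succ_of_ne_zero hr
  refine ⟨x * T s, ?_, mul_mem ?_ (hTO s), by simpa using hTC s (by omega)⟩
  · have h1 := hconj s
    rw [hTsucc, show f (s + 1) = x by show a ^ (s + 1) * x * (a ^ (s + 1))⁻¹ = x; rw [har]; simp,
      show T s * x = x * T s from ((Subgroup.mem_centralizer_iff.mp (hTC s (by omega))) x hx).symm]
      at h1
    exact mul_inv_eq_iff_eq_mul.mp h1
  · have h0 : a ^ 0 * x * (a ^ 0)⁻¹ ∈ O := hfO 0
    rw [pow_zero, one_mul, inv_one, mul_one] at h0
    exact h0

/-- The trichotomy. -/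
theorem component_trichotomy [Finite X] (hM : ModuleStep.{u}) {G R K : Subgroup X} {r : ℕ}
    [Fact r.Prime] (hR : Nat.card R = r) (hcop : (Nat.card G).Coprime r)
    (hnorm : R ≤ normalizer (G : Set X)) (hKG : K ≤ G) (hKq : Cfsg.IsQuasisimple K)
    (hcomm : CommConj (R ⊔ (G ⊓ centralizer (R : Set X))) K) :
    CompIn (G ⊓ centralizer (R : Set X)) K ∨ CompIn G K ∨
      ∃ L, CompIn G L ∧ R ≤ normalizer (L : Set X) ∧ K ≤ L := by
  classical
  set C0 := G ⊓ centralizer (R : Set X) with hC0
  set A := R ⊔ C0 with hA
  have hAR : A ≤ normalizer (R : Set X) :=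
    sup_le le_normalizer (inf_le_right.trans (centralizer_le_normalizer _))
  have hAG : A ≤ normalizer (G : Set X) := sup_le hnorm (inf_le_left.trans le_normalizer)
  have hKp := quasi_perfect hKq
  by_cases hKR : ⁅K, R⁆ = ⊥
  · -- `K` is a component of the fixed points
    left
    have hKC : K ≤ C0 :=
      le_inf hKG (Subgroup.commutator_eq_bot_iff_le_centralizer.mp hKR)
    have hc := hcomm.mono (le_sup_right : C0 ≤ A)
    have hWC : span C0 K ≤ C0 := span_le hKC le_normalizer
    refine ⟨hKC, IsSubnormal.trans (Subgroup.comap_mono (le_span C0 K)) ?_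
      ((Subgroup.normal_subgroupOf_iff_le_normalizer hWC).mpr (le_normalizer_span C0 K)).isSubnormal,
      (isQuasisimple_congr (Subgroup.subgroupOfEquivOfLe hKC)).mpr hKq⟩
    refine (normal_subgroupOf_of_le_normalizer ?_).isSubnormal
    rw [← Subgroup.subgroupOf_normalizer_eq hKC]
    exact Subgroup.comap_mono hc.span_normalizes
  right
  -- `K` lies in the layer of `G`
  have hWG : span A K ≤ G := span_le hKG hAG
  have hWR := span_commutator hcomm hKq le_sup_left hAR hKR
  have hlay := layer_le_layer hM hR hcop hnorm hWG (le_normalizer_span A K) hWR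
  have hKL : K ≤ layerOf G := by
    refine le_trans ?_ (hlay.trans (map_layer_le_layerOf G))
    exact (Subgroup.map_subgroupOf_eq_of_le (le_span A K)).symm.le.trans
      (Subgroup.map_mono (le_layer (hcomm.compIn_span hKq).2))
  have hKN : ∀ L, CompIn G L → K ≤ normalizer (L : Set X) := fun L hL =>
    hKL.trans hL.layerOf_le_normalizer
  have hKd : ∀ L, CompIn G L → K ≤ L ⊔ centralizer (L : Set X) := fun L hL =>
    hKL.trans hL.layerOf_le_sup
  obtain ⟨a, haR, ha1⟩ : ∃ a : X, a ∈ R ∧ a ≠ 1 := by
    haveI : Nontrivial R :=
      Finite.one_lt_card_iff_nontrivial.mp (hR ▸ (Fact.out : r.Prime).one_lt)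
    obtain ⟨⟨a, ha⟩, hne⟩ := exists_ne (1 : R)
    exact ⟨a, ha, fun h => hne (Subtype.ext h)⟩
  have har : a ^ r = 1 := by
    have h : (⟨a, haR⟩ : R) ^ r = 1 := hR ▸ pow_card_eq_one'
    simpa using congrArg Subtype.val h
  have hord : orderOf a = r := orderOf_eq_prime har ha1
  have hgen : ∀ b ∈ R, b ≠ 1 → Subgroup.zpowers b = R := by
    intro b hb hb1
    refine Subgroup.eq_of_le_of_card_ge ((Subgroup.zpowers_le).mpr hb) ?_
    have hbr : b ^ r = 1 := by
      have h : (⟨b, hb⟩ : R) ^ r = 1 := hR ▸ pow_card_eq_one'
      simpa using congrArg Subtype.val h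
    rw [hR, Nat.card_zpowers, orderOf_eq_prime hbr hb1]
  -- the moved components met by `K`
  have hfull : ∀ L, CompIn G L → ¬ R ≤ normalizer (L : Set X) → ¬ K ≤ centralizer (L : Set X) →
      trace K L = L ∧ (∀ c ∈ C0 ⊓ layerOf G, MulAut.conj c • K = K) ∧
        K ≤ sSup (Set.range fun i : ℕ => MulAut.conj (a ^ i) • L) := by
    intro L hL hmov hnc
    have hmov' : ∀ i, 0 < i → i < r → MulAut.conj (a ^ i) • L ≠ L := by
      intro i hi hir h
      refine hmov ?_
      rw [← hgen (a ^ i) (pow_mem haR i) (fun h1 => ?_), Subgroup.zpowers_le]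
      · exact Coprime.conj_smul_eq_self_iff.mp h
      · exact absurd (Nat.le_of_dvd hi (hord ▸ orderOf_dvd_of_pow_eq_one h1)) (by omega)
    set O := sSup (Set.range fun i : ℕ => MulAut.conj (a ^ i) • L) with hO
    have hcompO : ∀ M ∈ Set.range (fun i : ℕ => MulAut.conj (a ^ i) • L), CompIn G M := by
      rintro _ ⟨i, rfl⟩
      exact hL.conj (pow_mem (hnorm haR) i)
    have hOL : O ≤ layerOf G := sSup_le fun M hM => le_sSup (hcompO M hM)
    have hOn : layerOf G ≤ normalizer (O : Set X) :=
      sSup_le fun M hM => hM.le_normalizer_sSup hcompO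
    have hext : ∀ x ∈ L, ∃ c ∈ C0, c ∈ O ∧ x⁻¹ * c ∈ centralizer (L : Set X) := by
      intro x hx
      obtain ⟨c, hac, hcO, hxc⟩ := exists_fixed_extension (NeZero.ne r) har hL (hnorm haR) hmov' hx
      refine ⟨c, ⟨(hcO |> fun h => (hOL.trans (sSup_le fun M hM => hM.1)) h), ?_⟩, hcO, hxc⟩
      show c ∈ centralizer (R : Set X)
      rw [Subgroup.mem_centralizer_iff]
      intro b hb
      rw [← hgen a haR ha1] at hb
      obtain ⟨n, rfl⟩ := hb
      exact (hac.zpow_left n).eq
    set Z := L ⊓ centralizer (L : Set X) with hZ
    have hZT : Z ≤ trace K L := inf_le_inf_left _ le_sup_left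
    have hnotZ : ¬ trace K L ≤ Z := by
      intro h
      apply hnc
      intro k hk
      obtain ⟨l, hl, z, hz, rfl⟩ := exists_trace_mul (hKd L hL) hk
      exact mul_mem (h hl).2 hz
    have hconjN : ∀ c ∈ C0 ⊓ layerOf G, MulAut.conj c • K ≠ K →
        ⁅trace K L, MulAut.conj c • trace K L⁆ ≤ Z := by
      intro c hc hne
      have hcL : c ∈ normalizer (L : Set X) := hL.layerOf_le_normalizer hc.2
      have h1 : MulAut.conj c • trace K L = trace (MulAut.conj c • K) L := by
        rw [trace, trace, Subgroup.smul_inf, Subgroup.smul_sup,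
          Coprime.conj_smul_eq_self_iff.mpr hcL,
          Coprime.conj_smul_eq_self_iff.mpr (normalizer_le_normalizer_centralizer'
            (show normalizer (L : Set X) ≤ normalizer (L : Set X) from le_rfl) hcL)]
      rw [h1]
      refine trace_commutator (hKN L hL) ?_ (hcomm c (Subgroup.mem_sup_right hc.1) hne)
      intro y hy
      rw [Coprime.mem_conj_smul] at hy
      have := mul_mem (mul_mem hcL (hKN L hL hy)) (inv_mem hcL)
      simpa [mul_assoc] using this
    -- every element of `L` normalises the trace
    have hTn : L ≤ normalizer (trace K L : Set X) := by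
      have hTle : trace K L ≤ L := inf_le_left
      have hZn : L ≤ normalizer (trace K L ⊔ Z : Subgroup X) → L ≤ normalizer (trace K L : Set X) :=
        fun h => by rwa [sup_eq_left.mpr hZT] at h
      have key : ∀ x ∈ L, MulAut.conj x • trace K L = trace K L ∨
          ⁅trace K L, MulAut.conj x • trace K L⁆ ≤ Z := by
        intro x hx
        obtain ⟨c, hc0, hcO, hxc⟩ := hext x hx
        have hxy : MulAut.conj x • trace K L = MulAut.conj c • trace K L := by
          have : MulAut.conj (x⁻¹ * c) • trace K L = trace K L :=
            Coprime.conj_smul_eq_self_iff.mpr ((centralizer_le_normalizer _)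
              (centralizer_le hTle hxc))
          conv_rhs => rw [show c = x * (x⁻¹ * c) by group, Coprime.conj_smul_mul, this]
        rw [hxy]
        by_cases he : MulAut.conj c • K = K
        · left
          have hcL : c ∈ normalizer (L : Set X) := hL.layerOf_le_normalizer (hOL hcO)
          rw [trace, Subgroup.smul_inf, Subgroup.smul_sup,
            Coprime.conj_smul_eq_self_iff.mpr hcL, he,
            Coprime.conj_smul_eq_self_iff.mpr (normalizer_le_normalizer_centralizer'
              (show normalizer (L : Set X) ≤ normalizer (L : Set X) from le_rfl) hcL)]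
        · exact Or.inr (hconjN c ⟨hc0, hOL hcO⟩ he)
      -- the span of the conjugates normalises the trace, and is all of `L`
      set N := span L (trace K L) with hN
      have hNn : N ≤ normalizer (trace K L : Set X) := by
        refine sSup_le ?_
        rintro _ ⟨x, hx, rfl⟩
        rcases key x hx with h | h
        · show MulAut.conj x • trace K L ≤ _
          rw [h]; exact le_normalizer
        · exact Subgroup.le_normalizer_iff_commutator_le_left.mpr (h.trans hZT)
      rcases quasi_eq_or_commute hL.isQuasisimple (span_le hTle le_normalizer)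
          (le_normalizer_span L (trace K L)) with h | h
      · exact h.symm.le.trans hNn
      · exfalso
        exact hnotZ (le_inf hTle (Subgroup.commutator_eq_bot_iff_le_centralizer.mp
          (le_bot_iff.mp ((Subgroup.commutator_mono (le_span L (trace K L)) le_rfl).trans h.le))))
    have htr : trace K L = L := by
      refine (quasi_eq_or_commute hL.isQuasisimple inf_le_left hTn).resolve_right fun h => ?_
      exact hnotZ (le_inf inf_le_left (Subgroup.commutator_eq_bot_iff_le_centralizer.mp h))
    have hnormK : ∀ c ∈ C0 ⊓ layerOf G, MulAut.conj c • K = K := by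
      intro c hc
      by_contra hne
      have hcL : c ∈ normalizer (L : Set X) := hL.layerOf_le_normalizer hc.2
      have h := hconjN c hc hne
      rw [htr, Coprime.conj_smul_eq_self_iff.mpr hcL, quasi_perfect hL.isQuasisimple] at h
      apply quasi_not_commute hL.isQuasisimple
      exact Subgroup.commutator_eq_bot_iff_le_centralizer.mpr (h.trans inf_le_right)
    refine ⟨htr, hnormK, ?_⟩
    set D := C0 ⊓ O with hD
    have hDN : D ≤ normalizer (K : Set X) := fun d hd =>
      Coprime.conj_smul_eq_self_iff.mp (hnormK d ⟨hd.1, hOL hd.2⟩)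
    have hKD : ⁅K, D⁆ = K := by
      refine (quasi_eq_or_commute hKq (Coprime.commutator_le_of_le_normalizer hDN)
        (Subgroup.normalizer_commutator_ge_left K D)).resolve_right fun h => ?_
      have hKDc : ⁅K, D⁆ = ⊥ := commutator_eq_bot_of_perfect hKp (by
        rwa [Subgroup.commutator_comm] at h ⊢)
      apply quasi_not_commute hL.isQuasisimple
      apply commutator_eq_bot_of_perfect (quasi_perfect hL.isQuasisimple)
      rw [Subgroup.commutator_eq_bot_iff_le_centralizer]
      have h2 : ⁅L, L⁆ ≤ Z := by
        refine le_inf (Subgroup.commutator_le_self L) ?_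
        refine (Subgroup.commutator_mono (trace_mono_eq htr)
          (?_ : L ≤ centralizer (L : Set X) ⊔ D)).trans ?_
        · intro x hx
          obtain ⟨c, hc0, hcO, hxc⟩ := hext x hx
          have : x = c * (x⁻¹ * c)⁻¹ := by group
          rw [this]
          exact mul_mem (Subgroup.mem_sup_right ⟨hc0, hcO⟩) (Subgroup.mem_sup_left (inv_mem hxc))
        · refine (commutator_sup_le (normalizer_le_normalizer_centralizer' (hKN L hL))
            (normalizer_le_normalizer_centralizer'
              ((inf_le_right.trans hOL).trans hL.layerOf_le_normalizer))).trans ?_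
          rw [hKDc, sup_bot_eq]
      exact h2.trans inf_le_right
    rw [← hKD]
    exact (Subgroup.commutator_mono hKL inf_le_right).trans
      (Subgroup.le_normalizer_iff_commutator_le_right.mp hOn)
  by_cases hmv : ∃ L, CompIn G L ∧ ¬ R ≤ normalizer (L : Set X) ∧ ¬ K ≤ centralizer (L : Set X)
  · obtain ⟨L, hL, hmov, hnc⟩ := hmv
    obtain ⟨htr, hnormK, hKO⟩ := hfull L hL hmov hnc
    set S := Set.range (fun i : ℕ => MulAut.conj (a ^ i) • L) with hS
    have hcompS : ∀ M ∈ S, CompIn G M := by
      rintro _ ⟨i, rfl⟩
      exact hL.conj (pow_mem (hnorm haR) i)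
    have hSmov : ∀ M ∈ S, ¬ R ≤ normalizer (M : Set X) := by
      rintro _ ⟨i, rfl⟩ hle
      apply hmov
      intro b hb
      have h1 := Coprime.conj_smul_eq_self_iff.mpr (hle hb)
      have hab : b * a ^ i = a ^ i * b := by
        rw [← hgen a haR ha1] at hb
        obtain ⟨n, rfl⟩ := hb
        exact ((Commute.zpow_self a n).pow_right i).eq
      rw [← Coprime.conj_smul_eq_self_iff]
      have h2 : MulAut.conj (a ^ i) • MulAut.conj b • L = MulAut.conj (a ^ i) • L := by
        rw [← Coprime.conj_smul_mul, ← hab, Coprime.conj_smul_mul, h1]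
      exact MulAction.injective _ h2
    by_cases hKfix : R ≤ normalizer (K : Set X)
    · -- then `K` lies in the fixed points
      exfalso
      apply hKR
      have hall : ∀ M ∈ S, trace K M = M := by
        intro M hM
        refine (hfull M (hcompS M hM) (hSmov M hM) ?_).1
        obtain ⟨i, rfl⟩ := hM
        intro hle
        apply hnc
        intro k hk
        rw [Subgroup.mem_centralizer_iff]
        intro l hl
        have hk' : a ^ i * k * (a ^ i)⁻¹ ∈ K :=
          (Subgroup.le_normalizer_iff.mp hKfix) _ (pow_mem haR i) k hk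
        have := Subgroup.mem_centralizer_iff.mp (hle hk') (a ^ i * l * (a ^ i)⁻¹)
          (Coprime.conj_mem_conj_smul hl)
        have h2 := congrArg (fun t => (a ^ i)⁻¹ * t * a ^ i) this
        simpa [mul_assoc] using h2
      set O := sSup S with hO
      have hOL : O ≤ layerOf G := sSup_le fun M hM => le_sSup (hcompS M hM)
      set D := C0 ⊓ O with hD
      set ZO := O ⊓ centralizer (O : Set X) with hZO
      have hKDZ : K ≤ D ⊔ ZO := by
        intro k hk
        obtain ⟨x, hx, z, hz, hkxz⟩ := exists_mul_centralizer (hKd L hL) hk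
        obtain ⟨c, hac, hcO, hxc⟩ := exists_fixed_extension (NeZero.ne r) har hL (hnorm haR)
          (fun i hi hir h => hmov (by
            rw [← hgen (a ^ i) (pow_mem haR i) (fun h1 => absurd (Nat.le_of_dvd hi
              (hord ▸ orderOf_dvd_of_pow_eq_one h1)) (by omega)), Subgroup.zpowers_le]
            exact Coprime.conj_smul_eq_self_iff.mp h)) hx
        have hcD : c ∈ D := ⟨⟨(hOL.trans (sSup_le fun M hM => hM.1)) hcO,
          Subgroup.mem_centralizer_iff.mpr fun b hb => by
            rw [← hgen a haR ha1] at hb
            obtain ⟨n, rfl⟩ := hb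
            exact (hac.zpow_left n).eq⟩, hcO⟩
        set e := c⁻¹ * k with he
        have heL : e ∈ centralizer (L : Set X) := by
          rw [he, hkxz, show c⁻¹ * (x * z) = (x⁻¹ * c)⁻¹ * z by group]
          exact mul_mem (inv_mem hxc) hz
        have heK : e ∈ normalizer (K : Set X) :=
          mul_mem (inv_mem (Coprime.conj_smul_eq_self_iff.mp (hnormK c ⟨hcD.1, hOL hcO⟩)))
            (le_normalizer hk)
        set Y := Subgroup.zpowers e with hY
        have hYK : Y ≤ normalizer (K : Set X) := (Subgroup.zpowers_le).mpr heK
        have heKc : e ∈ centralizer (K : Set X) := by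
          have h1 : ⁅K, Y⁆ ≤ centralizer (L : Set X) :=
            (Subgroup.commutator_mono le_rfl ((Subgroup.zpowers_le).mpr heL)).trans
              (Subgroup.le_normalizer_iff_commutator_le_right.mp
                (normalizer_le_normalizer_centralizer' (hKN L hL)))
          have h2 : ⁅K, Y⁆ ≤ K := Coprime.commutator_le_of_le_normalizer hYK
          rcases quasi_eq_or_commute hKq h2 (Subgroup.normalizer_commutator_ge_left K Y) with h | h
          · exact absurd (h.symm.le.trans h1) hnc
          · have h3 : ⁅K, Y⁆ = ⊥ := commutator_eq_bot_of_perfect hKp (by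
              rwa [Subgroup.commutator_comm] at h ⊢)
            exact (Subgroup.le_centralizer_iff.mp
              (Subgroup.commutator_eq_bot_iff_le_centralizer.mp h3)) (Subgroup.mem_zpowers e)
        have heO : e ∈ centralizer (O : Set X) := by
          have : O ≤ centralizer (Y : Set X) := sSup_le fun M hM => by
            have hYM : Y ≤ normalizer (M : Set X) := (Subgroup.zpowers_le).mpr
              ((hcompS M hM).layerOf_le_normalizer (mul_mem (inv_mem (hOL hcO)) (hKL hk)))
            apply Subgroup.commutator_eq_bot_iff_le_centralizer.mp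
            apply commutator_eq_bot_of_perfect (quasi_perfect (hcompS M hM).isQuasisimple)
            have hz : ⁅M, Y⁆ ≤ M ⊓ centralizer (M : Set X) := by
              refine le_inf (Coprime.commutator_le_of_le_normalizer hYM) ?_
              refine (Subgroup.commutator_mono (trace_mono_eq (hall M hM))
                (le_sup_right : Y ≤ centralizer (M : Set X) ⊔ Y)).trans ?_
              refine (commutator_sup_le (normalizer_le_normalizer_centralizer'
                (hKN M (hcompS M hM))) (normalizer_le_normalizer_centralizer' hYM)).trans ?_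
              rw [Subgroup.commutator_eq_bot_iff_le_centralizer.mpr
                (Subgroup.le_centralizer_iff.mp ((Subgroup.zpowers_le).mpr heKc)), sup_bot_eq]
            exact Subgroup.commutator_eq_bot_iff_le_centralizer.mpr (hz.trans inf_le_right)
          exact Subgroup.le_centralizer_iff.mp this (Subgroup.mem_zpowers e)
        have : k = c * e := by rw [he]; group
        rw [this]
        exact mul_mem (Subgroup.mem_sup_left hcD)
          (Subgroup.mem_sup_right (show e ∈ ZO from
            ⟨O.mul_mem (O.inv_mem hcO) (hKO hk), heO⟩))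
      rw [Subgroup.commutator_eq_bot_iff_le_centralizer]
      refine le_trans ?_ (inf_le_left.trans inf_le_right : D ≤ centralizer (R : Set X))
      have hZD : ZO ≤ centralizer (D : Set X) := inf_le_right.trans (centralizer_le inf_le_right)
      rw [← hKp, Subgroup.commutator_le]
      intro u hu v hv
      obtain ⟨d, hd, z, hz, rfl⟩ :=
        (Coprime.mem_sup_of_le_normalizer (hZD.trans (centralizer_le_normalizer _))).mp (hKDZ hu)
      obtain ⟨d', hd', z', hz', rfl⟩ :=
        (Coprime.mem_sup_of_le_normalizer (hZD.trans (centralizer_le_normalizer _))).mp (hKDZ hv)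
      have c3 : Commute d z' := Subgroup.mem_centralizer_iff.mp hz'.2 d hd.2
      have c4 : Commute d' z := Subgroup.mem_centralizer_iff.mp hz.2 d' hd'.2
      have c5 : Commute z z' := (Subgroup.mem_centralizer_iff.mp hz.2 z' hz'.1).symm
      have e1 : ⁅z, d' * z'⁆ = 1 :=
        commutatorElement_eq_one_iff_commute.mpr (c4.symm.mul_right c5)
      have : ⁅d * z, d' * z'⁆ = ⁅d, d'⁆ := by
        rw [commutatorElement_mul_left_eq_conj_mul, e1, mul_one, mul_inv_cancel, one_mul,
          commutatorElement_def, commutatorElement_def, mul_inv_rev]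
        rw [show d * (d' * z') * d⁻¹ * (z'⁻¹ * d'⁻¹) = d * d' * (z' * d⁻¹ * z'⁻¹) * d'⁻¹ by group,
          (c3.inv_left).symm.eq, mul_inv_cancel_right]
      rw [this]
      exact mul_mem (mul_mem (mul_mem hd hd') (inv_mem hd)) (inv_mem hd')
    · -- `K` is a component of `G`
      left
      have hothers : ∀ M, CompIn G M → M ∉ ({L} : Set (Subgroup X)) →
          K ≤ centralizer (M : Set X) := by
        intro M hM hne
        rw [Set.mem_singleton_iff] at hne
        by_cases hMS : M ∈ S
        · by_contra hncM
          obtain ⟨i, hi⟩ := hMS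
          obtain ⟨htrM, -, -⟩ := hfull M hM (hSmov M ⟨i, hi⟩) hncM
          set b := a ^ i with hb
          have hbR : b ∈ R := pow_mem haR i
          have hb1 : b ≠ 1 := fun h => hne (by rw [← hi]; simp [← hb, h])
          have hbK : MulAut.conj b • K ≠ K := fun h => hKfix (by
            rw [← hgen b hbR hb1, Subgroup.zpowers_le]
            exact Coprime.conj_smul_eq_self_iff.mp h)
          have hKc := hcomm b (Subgroup.mem_sup_left hbR) hbK
          have hM' : MulAut.conj b • L = M := hi
          have htr' : trace (MulAut.conj b • K) M = M := by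
            have h := congrArg (fun T => MulAut.conj b • T) htr
            simp only [trace, Subgroup.smul_inf, Subgroup.smul_sup, conj_smul_centralizer] at h
            rw [hM'] at h
            exact h
          have hKM : MulAut.conj b • K ≤ normalizer (M : Set X) := by
            intro y hy
            rw [Coprime.mem_conj_smul] at hy
            have hkn := hKN L hL hy
            rw [← Coprime.conj_smul_eq_self_iff] at hkn ⊢
            rw [← hM', ← Coprime.conj_smul_mul, show y * b = b * (b⁻¹ * y * b) by group,
              Coprime.conj_smul_mul, hkn]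
          have h := trace_commutator (hKN M hM) hKM hKc
          rw [htrM, htr', quasi_perfect hM.isQuasisimple] at h
          exact quasi_not_commute hM.isQuasisimple
            (Subgroup.commutator_eq_bot_iff_le_centralizer.mpr (h.trans inf_le_right))
        · exact hKO.trans (sSup_le fun N hN =>
            Subgroup.commutator_eq_bot_iff_le_centralizer.mp
              ((hcompS N hN).commute hM fun h => hMS (h ▸ hN)))
      have hKle : K ≤ L := by
        have := le_of_centralizes_others hKp hKL {L} (fun M hM => hM ▸ hL) hothers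
        simpa using this
      have hLK : L ≤ K := by
        have h1 : L ≤ (L ⊓ centralizer (L : Set X)) ⊔ K := by
          intro l hl
          obtain ⟨z, hz, k, hk, rfl⟩ := (Coprime.mem_sup_of_le_normalizer
            (normalizer_le_normalizer_centralizer' (hKN L hL))).mp (trace_mono_eq htr hl)
          exact mul_mem (Subgroup.mem_sup_left ⟨(mul_mem_cancel_right (hKle hk)).mp hl, hz⟩)
            (Subgroup.mem_sup_right hk)
        calc L = ⁅L, L⁆ := (quasi_perfect hL.isQuasisimple).symm
          _ ≤ K := by
            rw [Subgroup.commutator_le]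
            intro u hu v hv
            obtain ⟨z, hz, k, hk, rfl⟩ := (Coprime.mem_sup_of_le_normalizer (hKle.trans
              (le_trans (le_inf le_normalizer (normalizer_le_normalizer_centralizer' le_normalizer))
                Subgroup.inf_normalizer_le_normalizer_inf))).mp (h1 hu)
            obtain ⟨z', hz', k', hk', rfl⟩ := (Coprime.mem_sup_of_le_normalizer (hKle.trans
              (le_trans (le_inf le_normalizer (normalizer_le_normalizer_centralizer' le_normalizer))
                Subgroup.inf_normalizer_le_normalizer_inf))).mp (h1 hv)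
            have cz : ∀ w ∈ L, Commute z w := fun w hw =>
              (Subgroup.mem_centralizer_iff.mp hz.2 w hw).symm
            have cz' : ∀ w ∈ L, Commute z' w := fun w hw =>
              (Subgroup.mem_centralizer_iff.mp hz'.2 w hw).symm
            have e1 : ⁅z, z' * k'⁆ = 1 := commutatorElement_eq_one_iff_commute.mpr (cz _ hv)
            have e2 : z * ⁅k, z' * k'⁆ * z⁻¹ = ⁅k, z' * k'⁆ := by
              rw [(cz _ ?_).eq, mul_inv_cancel_right]
              exact Subgroup.commutator_le_self L
                (Subgroup.commutator_mem_commutator (hKle hk) hv)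
            have e3 : ⁅k, z' * k'⁆ = ⁅k, k'⁆ := by
              rw [commutatorElement_def, commutatorElement_def, mul_inv_rev,
                show k * (z' * k') * k⁻¹ * (k'⁻¹ * z'⁻¹) = k * z' * (k' * k⁻¹ * k'⁻¹) * z'⁻¹
                  by group, ← (cz' k (hKle hk)).eq,
                show z' * k * (k' * k⁻¹ * k'⁻¹) * z'⁻¹ = z' * (k * k' * k⁻¹ * k'⁻¹) * z'⁻¹
                  by group, (cz' _ ?_).eq, mul_inv_cancel_right]
              exact mul_mem (mul_mem (mul_mem (hKle hk) (hKle hk')) (inv_mem (hKle hk)))
                (inv_mem (hKle hk'))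
            rw [commutatorElement_mul_left_eq_conj_mul, e2, e1, mul_one, e3]
            exact Subgroup.commutator_le_self K (Subgroup.commutator_mem_commutator hk hk')
      exact le_antisymm hKle hLK ▸ hL
  · push Not at hmv
    have hfix : ∀ L, CompIn G L → ¬ K ≤ centralizer (L : Set X) → R ≤ normalizer (L : Set X) :=
      fun L hL hnc => by by_contra h; exact hnc (hmv L hL h)
    by_cases hone : ∀ L M, CompIn G L → CompIn G M → ¬ K ≤ centralizer (L : Set X) →
        ¬ K ≤ centralizer (M : Set X) → L = M
    · by_cases hex : ∃ L, CompIn G L ∧ ¬ K ≤ centralizer (L : Set X)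
      · obtain ⟨L, hL, hnc⟩ := hex
        refine Or.inr ⟨L, hL, hfix L hL hnc, ?_⟩
        have := le_of_centralizes_others hKp hKL {L} (fun M hM => hM ▸ hL) fun M hM hne => by
          by_contra h
          exact hne (Set.mem_singleton_iff.mpr (hone M L hM hL h hnc))
        simpa using this
      · push Not at hex
        have := le_of_centralizes_others hKp hKL ∅ (fun M hM => hM.elim) fun M hM _ => hex M hM
        rw [sSup_empty, le_bot_iff] at this
        exact absurd (by rw [this, Subgroup.commutator_bot_left]) (quasi_not_commute hKq)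
    · exfalso
      push Not at hone
      obtain ⟨L, M, hL, hMc, hncL, hncM, hne⟩ := hone
      set C2 := M ⊓ centralizer (R : Set X) with hC2
      have hC2le : C2 ≤ C0 := inf_le_inf_right _ hMc.1
      have hC2L : C2 ≤ centralizer (L : Set X) :=
        inf_le_left.trans (Subgroup.commutator_eq_bot_iff_le_centralizer.mp
          (hMc.commute hL hne.symm))
      have hC2K : C2 ≤ normalizer (K : Set X) := by
        intro c hc
        rw [← Coprime.conj_smul_eq_self_iff]
        by_contra hneK
        have hKc := hcomm c (Subgroup.mem_sup_right (hC2le hc)) hneK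
        apply hncL
        -- `K` and `K^c` induce the same on `L`
        have h1 : ⁅trace K L, trace K L⁆ ≤ L ⊓ centralizer (L : Set X) := by
          have h2 : trace (MulAut.conj c • K) L = trace K L := by
            have hcL : c ∈ normalizer (L : Set X) := centralizer_le_normalizer _ (hC2L hc)
            have h3 : MulAut.conj c • trace K L = trace K L :=
              Coprime.conj_smul_eq_self_iff.mpr (centralizer_le_normalizer _
                (centralizer_le (inf_le_left : trace K L ≤ L) (hC2L hc)))
            conv_rhs => rw [← h3]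
            rw [trace, trace, Subgroup.smul_inf, Subgroup.smul_sup,
              Coprime.conj_smul_eq_self_iff.mpr hcL,
              Coprime.conj_smul_eq_self_iff.mpr (normalizer_le_normalizer_centralizer'
                (show normalizer (L : Set X) ≤ normalizer (L : Set X) from le_rfl) hcL)]
          conv_lhs => arg 2; rw [← h2]
          refine trace_commutator (hKN L hL) ?_ hKc
          intro y hy
          rw [Coprime.mem_conj_smul] at hy
          have hcL : c ∈ normalizer (L : Set X) := centralizer_le_normalizer _ (hC2L hc)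
          have := mul_mem (mul_mem hcL (hKN L hL hy)) (inv_mem hcL)
          simpa [mul_assoc] using this
        rw [← hKp]
        have hd : K ≤ centralizer (L : Set X) ⊔ trace K L := fun k hk => by
          obtain ⟨l, hl, z, hz, rfl⟩ := exists_trace_mul (hKd L hL) hk
          exact mul_mem (Subgroup.mem_sup_right hl) (Subgroup.mem_sup_left hz)
        have hTn : trace K L ≤ normalizer ((centralizer (L : Set X) : Subgroup X) : Set X) :=
          normalizer_le_normalizer_centralizer' (inf_le_left.trans le_normalizer)
        exact (Subgroup.commutator_mono hd hd).trans ((commutator_sup_le hTn hTn).trans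
          (sup_le le_rfl (h1.trans inf_le_right)))
      have hC2c : K ≤ centralizer (C2 : Set X) := by
        have h2 : ⁅K, C2⁆ ≤ K := Coprime.commutator_le_of_le_normalizer hC2K
        have h1 : ⁅K, C2⁆ ≤ centralizer (L : Set X) :=
          (Subgroup.commutator_mono le_rfl hC2L).trans
            (Subgroup.le_normalizer_iff_commutator_le_right.mp
              (normalizer_le_normalizer_centralizer' (hKN L hL)))
        rcases quasi_eq_or_commute hKq h2 (Subgroup.normalizer_commutator_ge_left K C2) with h | h
        · exact absurd (h.symm.le.trans h1) hncL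
        · exact Subgroup.commutator_eq_bot_iff_le_centralizer.mp
            (commutator_eq_bot_of_perfect hKp (by rwa [Subgroup.commutator_comm] at h ⊢))
      -- apply the fixed point lemma to the span of `K` under `R`
      have hcR := hcomm.mono (le_sup_left : R ≤ A)
      have hsR := span_commutator hcR hKq le_rfl le_normalizer hKR
      have hRM : R ≤ normalizer (M : Set X) := hfix M hMc hncM
      have hsM : span R K ≤ normalizer (M : Set X) := by
        refine sSup_le ?_
        rintro _ ⟨b, hb, rfl⟩ y hy
        rw [Coprime.mem_conj_smul] at hy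
        have := mul_mem (mul_mem (hRM hb) (hKN M hMc hy)) (inv_mem (hRM hb))
        simpa [mul_assoc] using this
      have hspanc : span R K ≤ centralizer (C2 : Set X) := by
        refine span_le hC2c ?_
        refine normalizer_le_normalizer_centralizer' ?_
        refine le_trans ?_ (centralizer_le_normalizer _)
        exact (Subgroup.le_centralizer_iff.mp (inf_le_right : C2 ≤ centralizer (R : Set X)))
      apply hncM
      refine (le_span R K).trans ?_
      exact le_centralizer_of_fixed hM _ X R M (span R K) r rfl hR
        (hcop.coprime_dvd_left (Subgroup.card_dvd_of_le hMc.1))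
        (hcop.coprime_dvd_left (Subgroup.card_dvd_of_le (span_le hKG hnorm)))
        hRM (le_normalizer_span R K) hsM (span_perfect hKq) hsR hspanc

end Cfsg.Agent.Lib.PGroups.CoprimeLayer
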