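import Cfsg.Agent.Lib.PGroups.CoprimeLayer.Perfect

/-!
A perfect group `H = [H, R]` centralising the fixed points of `R` on `L` centralises `L`
(`R` of prime order `r`, everything of order prime to `r`).
-/

set_option autoImplicit false
set_option linter.unusedSectionVars false
set_option linter.style.haveILetI false

namespace Cfsg.Agent.Lib.PGroups.CoprimeLayer

open Subgroup
open scoped commutatorElement Pointwise

universe u

variable {X : Type u} [Group X] [Finite X]

/-- A subgroup of prime order is solvable. -/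
theorem isSolvable_of_card_prime {R : Subgroup X} {r : ℕ} [Fact r.Prime] (hR : Nat.card R = r) :
    Group.IsSolvable R :=
  haveI : IsCyclic R := isCyclic_of_prime_card hR
  Group.isSolvable_of_comm fun x y => by
    obtain ⟨g, hg⟩ := IsCyclic.exists_generator (α := R)
    obtain ⟨m, rfl⟩ := hg x
    obtain ⟨n, rfl⟩ := hg y
    exact (Commute.zpow_zpow_self g m n).eq

/-- `card (L ⊔ D)` has only the primes of `L` and of `D`. -/
theorem coprime_card_sup {L D : Subgroup X} {r : ℕ} (hDL : D ≤ normalizer (L : Set X))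
    (hL : (Nat.card L).Coprime r) (hD : (Nat.card D).Coprime r) :
    (Nat.card ↥(L ⊔ D)).Coprime r := by
  set M := normalizer (L : Set X)
  have hLM : L ≤ M := le_normalizer
  haveI : (L.subgroupOf M).Normal :=
    (Subgroup.normal_subgroupOf_iff_le_normalizer hLM).mpr le_rfl
  have h := PLocal.Cores.card_sup_dvd_of_normal' (L.subgroupOf M) (D.subgroupOf M)
  rw [← Subgroup.subgroupOf_sup hLM hDL,
    Nat.card_congr (Subgroup.subgroupOfEquivOfLe (sup_le hLM hDL)).toEquiv,
    Nat.card_congr (Subgroup.subgroupOfEquivOfLe hLM).toEquiv,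
    Nat.card_congr (Subgroup.subgroupOfEquivOfLe hDL).toEquiv] at h
  exact (Nat.Coprime.mul_left hL hD).coprime_dvd_left h

/-- Characteristic subgroups of `L` are invariant. -/
theorem char_invariant {L A : Subgroup X} (K : Subgroup L) [K.Characteristic]
    (hA : A ≤ normalizer (L : Set X)) : A ≤ normalizer ((K.map L.subtype : Subgroup X) : Set X) :=
  hA.trans (Coprime.OmegaDetect.normalizer_le_normalizer_char L K)

/-- Fixed points of a prime order automorphism group and a perfect group centralising them. -/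
theorem le_centralizer_of_fixed (hM : ModuleStep.{u}) :
    ∀ (n : ℕ) (X : Type u) [Group X] [Finite X] (R L H : Subgroup X) (r : ℕ) [Fact r.Prime],
      Nat.card L = n → Nat.card R = r → (Nat.card L).Coprime r → (Nat.card H).Coprime r →
      R ≤ normalizer (L : Set X) → R ≤ normalizer (H : Set X) → H ≤ normalizer (L : Set X) →
      ⁅H, H⁆ = H → ⁅H, R⁆ = H →
      H ≤ centralizer ((L ⊓ centralizer (R : Set X) : Subgroup X) : Set X) →
      H ≤ centralizer (L : Set X) := by
  intro n
  induction n using Nat.strong_induction_on with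
  | _ n ih =>
  intro X _ _ R L H r _ hn hR hLr hHr hRL hRH hHL hperf hHR hfix
  classical
  subst hn
  haveI : Fact (Nat.Prime 2) := ⟨Nat.prime_two⟩
  have hRsolv : Group.IsSolvable R := isSolvable_of_card_prime hR
  have hRLcop : (Nat.card R).Coprime (Nat.card L) := hR ▸ hLr.symm
  have hlt : ∀ A : Subgroup X, A ≤ L → A ≠ L → Nat.card A < Nat.card L := fun A hA hne =>
    lt_of_not_ge fun h => hne (Subgroup.eq_of_le_of_card_ge hA h)
  by_cases hex : ∃ N : Subgroup X, N ≤ L ∧ L ≤ normalizer (N : Set X) ∧
      H ≤ normalizer (N : Set X) ∧ R ≤ normalizer (N : Set X) ∧ N ≠ ⊥ ∧ N ≠ L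
  · obtain ⟨N, hNL, hLN, hHN, hRN, hN1, hN2⟩ := hex
    have hNc : H ≤ centralizer (N : Set X) :=
      ih _ (hlt N hNL hN2) X R N H r rfl hR
        (hLr.coprime_dvd_left (Subgroup.card_dvd_of_le hNL)) hHr hRN hRH hHN hperf hHR
        (hfix.trans (centralizer_le fun _ hx => ⟨hNL hx.1, hx.2⟩))
    -- the quotient by `N`
    set M := normalizer (N : Set X) with hMdef
    haveI : (N.subgroupOf M).Normal :=
      (Subgroup.normal_subgroupOf_iff_le_normalizer le_normalizer).mpr le_rfl
    set π := QuotientGroup.mk' (N.subgroupOf M) with hπ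
    have hsub : ∀ A B : Subgroup X, A ≤ M → B ≤ M →
        (⁅A, B⁆).subgroupOf M = ⁅A.subgroupOf M, B.subgroupOf M⁆ := by
      intro A B hA hB
      apply Subgroup.map_injective M.subtype_injective
      rw [map_commutator, Subgroup.map_subgroupOf_eq_of_le hA, Subgroup.map_subgroupOf_eq_of_le hB,
        Subgroup.map_subgroupOf_eq_of_le]
      exact (Subgroup.commutator_mono hA hB).trans (Subgroup.commutator_le_self M)
    have hcard : ∀ A : Subgroup X, A ≤ M →
        Nat.card ((A.subgroupOf M).map π) ∣ Nat.card A := fun A hA =>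
      (Subgroup.card_map_dvd _ π).trans
        (dvd_of_eq (Nat.card_congr (Subgroup.subgroupOfEquivOfLe hA).toEquiv))
    have hnorm : ∀ A B : Subgroup X, A ≤ M → B ≤ normalizer (A : Set X) → B ≤ M →
        (B.subgroupOf M).map π ≤ normalizer (((A.subgroupOf M).map π :
          Subgroup (M ⧸ N.subgroupOf M)) : Set (M ⧸ N.subgroupOf M)) := by
      intro A B hA hBA hB
      refine le_trans (Subgroup.map_mono ?_) (Subgroup.le_normalizer_map π)
      rw [← Subgroup.subgroupOf_normalizer_eq hA]
      exact Subgroup.comap_mono hBA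
    have hR' : Nat.card ((R.subgroupOf M).map π) = r := by
      rcases (Fact.out : r.Prime).eq_one_or_self_of_dvd _ (hR ▸ hcard R hRN) with h | h
      · exfalso
        have hle : R ≤ N := by
          have h2 := (Subgroup.map_eq_bot_iff _).mp (Subgroup.card_eq_one.mp h)
          rw [QuotientGroup.ker_mk'] at h2
          intro x hx
          exact h2 (show (⟨x, hRN hx⟩ : M) ∈ R.subgroupOf M from hx)
        refine (Fact.out : r.Prime).not_dvd_one (hLr ▸ Nat.dvd_gcd ?_ dvd_rfl)
        exact hR ▸ Subgroup.card_dvd_of_le (hle.trans hNL)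
      · exact h
    have hltQ : Nat.card ((L.subgroupOf M).map π) < Nat.card L := by
      have hNLM : N.subgroupOf M ≤ L.subgroupOf M := Subgroup.comap_mono hNL
      have h := PLocal.Cores.card_eq_card_inf_ker_mul_card_map (L.subgroupOf M) π
      rw [QuotientGroup.ker_mk', Nat.card_congr (Subgroup.subgroupOfEquivOfLe hLN).toEquiv,
        inf_eq_right.mpr hNLM,
        Nat.card_congr (Subgroup.subgroupOfEquivOfLe (le_normalizer : N ≤ M)).toEquiv] at h
      rw [h]
      refine lt_mul_of_one_lt_left Nat.card_pos ?_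
      exact Subgroup.one_lt_card_iff_ne_bot _ |>.mpr hN1
    have hfixQ : (H.subgroupOf M).map π ≤ centralizer (((L.subgroupOf M).map π ⊓
        centralizer (((R.subgroupOf M).map π : Subgroup (M ⧸ N.subgroupOf M)) :
          Set (M ⧸ N.subgroupOf M)) : Subgroup (M ⧸ N.subgroupOf M)) :
          Set (M ⧸ N.subgroupOf M)) := by
      rw [← Coprime.map_inf_centralizer π (A := R.subgroupOf M) (K := L.subgroupOf M) ?_ ?_ ?_]
      · rintro _ ⟨x, hx, rfl⟩
        rw [Subgroup.mem_centralizer_iff]
        rintro _ ⟨y, ⟨hyL, hyR⟩, rfl⟩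
        rw [← map_mul, ← map_mul]
        refine congrArg π (Subtype.ext ?_)
        exact Subgroup.mem_centralizer_iff.mp (hfix hx) (y : X) ⟨hyL,
          Subgroup.mem_centralizer_iff.mpr fun a ha => congrArg Subtype.val
            (Subgroup.mem_centralizer_iff.mp hyR ⟨a, hRN ha⟩ ha)⟩
      · rw [← Subgroup.subgroupOf_normalizer_eq hLN]
        exact Subgroup.comap_mono hRL
      · rw [Nat.card_congr (Subgroup.subgroupOfEquivOfLe hRN).toEquiv,
          Nat.card_congr (Subgroup.subgroupOfEquivOfLe hLN).toEquiv]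
        exact hRLcop
      · exact Or.inl (Group.isSolvable_of_isSolvable_injective
          (f := (Subgroup.subgroupOfEquivOfLe hRN).toMonoidHom) (MulEquiv.injective _))
    have hQ := ih _ hltQ (M ⧸ N.subgroupOf M) ((R.subgroupOf M).map π) ((L.subgroupOf M).map π)
      ((H.subgroupOf M).map π) r rfl hR' (hLr.coprime_dvd_left (hcard L hLN))
      (hHr.coprime_dvd_left (hcard H hHN)) (hnorm L R hLN hRL hRN) (hnorm H R hHN hRH hRN)
      (hnorm L H hLN hHL hHN) (by rw [← map_commutator, ← hsub H H hHN hHN, hperf])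
      (by rw [← map_commutator, ← hsub H R hHN hRN, hHR]) hfixQ
    have h1 : ⁅H, L⁆ ≤ N := by
      rw [Subgroup.commutator_le]
      intro h hh l hl
      have h2 := Subgroup.mem_centralizer_iff.mp (hQ ⟨⟨h, hHN hh⟩, hh, rfl⟩) _
        ⟨⟨l, hLN hl⟩, hl, rfl⟩
      have h3 : π ⁅(⟨h, hHN hh⟩ : M), ⟨l, hLN hl⟩⁆ = 1 := by
        rw [map_commutatorElement, commutatorElement_eq_one_iff_commute]
        exact h2.symm
      exact (QuotientGroup.eq_one_iff (⁅(⟨h, hHN hh⟩ : M), ⟨l, hLN hl⟩⁆ : M)).mp h3
    have h4 : ⁅⁅H, L⁆, H⁆ = ⊥ := by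
      rw [Subgroup.commutator_comm]
      exact le_bot_iff.mp ((Subgroup.commutator_mono le_rfl h1).trans
        (Subgroup.commutator_eq_bot_iff_le_centralizer.mpr hNc).le)
    exact Subgroup.commutator_eq_bot_iff_le_centralizer.mp
      (Components.Basic.commutator_eq_bot_of_perfect hperf h4)
  push Not at hex
  have hno : ∀ N : Subgroup X, N ≤ L → L ≤ normalizer (N : Set X) → H ≤ normalizer (N : Set X) →
      R ≤ normalizer (N : Set X) → N = ⊥ ∨ N = L := fun N h1 h2 h3 h4 => by
    by_cases h : N = ⊥
    · exact Or.inl h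
    · exact Or.inr (hex N h1 h2 h3 h4 h)
  have hchar : ∀ K : Subgroup L, K.Characteristic → K = ⊥ ∨ K = ⊤ := by
    intro K hK
    rcases hno (K.map L.subtype) (Subgroup.map_subtype_le K)
        (char_invariant K le_normalizer) (char_invariant K hHL) (char_invariant K hRL) with h | h
    · exact Or.inl ((Subgroup.map_eq_bot_iff_of_injective K L.subtype_injective).mp h)
    · right
      apply Subgroup.map_injective L.subtype_injective
      rw [h, ← MonoidHom.range_eq_map, Subgroup.range_subtype]
  by_cases hL1 : L = ⊥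
  · subst hL1
    intro h _
    rw [Subgroup.mem_centralizer_iff]
    intro u hu
    rw [Subgroup.coe_bot, Set.mem_singleton_iff] at hu
    simp [hu]
  haveI hLnt : Nontrivial L := (Subgroup.nontrivial_iff_ne_bot L).mpr hL1
  by_cases hsolv : Group.IsSolvable L
  · -- `L` is elementary abelian
    have hcomm : commutator L = ⊥ := (hchar _ inferInstance).resolve_right
      (ne_of_lt (Group.IsSolvable.commutator_lt_top_of_nontrivial L))
    have hc : ∀ u ∈ L, ∀ v ∈ L, u * v = v * u := by
      intro u hu v hv
      have h2 : ⁅(⟨u, hu⟩ : L), ⟨v, hv⟩⁆ ∈ commutator L :=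
        Subgroup.commutator_mem_commutator (Subgroup.mem_top _) (Subgroup.mem_top _)
      rw [hcomm, Subgroup.mem_bot, commutatorElement_eq_one_iff_commute] at h2
      exact congrArg Subtype.val h2.eq
    obtain ⟨q, hq, hqd⟩ := Nat.exists_prime_and_dvd
      (n := Nat.card L) ((Finite.one_lt_card (α := L)).ne')
    haveI : Fact q.Prime := ⟨hq⟩
    let W : Subgroup X :=
      { carrier := {x | x ∈ L ∧ x ^ q = 1}
        one_mem' := ⟨one_mem _, one_pow q⟩
        mul_mem' := fun {u v} hu hv => ⟨mul_mem hu.1 hv.1, by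
          rw [(show Commute u v from hc u hu.1 v hv.1).mul_pow, hu.2, hv.2, one_mul]⟩
        inv_mem' := fun {u} hu => ⟨inv_mem hu.1, by rw [inv_pow, hu.2, inv_one]⟩ }
    have hWn : ∀ A : Subgroup X, A ≤ normalizer (L : Set X) → A ≤ normalizer (W : Set X) :=
      fun A hA => Subgroup.le_normalizer_iff.mpr fun a ha x hx =>
        ⟨(Subgroup.le_normalizer_iff.mp hA) a ha x hx.1, by rw [conj_pow, hx.2, mul_one,
          mul_inv_cancel]⟩
    have hWL : W = L := by
      refine (hno W (fun x hx => hx.1) (hWn L le_normalizer) (hWn H hHL) (hWn R hRL)).resolve_left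
        fun h => ?_
      obtain ⟨x, hx⟩ := exists_prime_orderOf_dvd_card' q hqd
      have h2 : (x : X) ∈ W := ⟨x.2, by
        have := congrArg Subtype.val (pow_orderOf_eq_one x)
        rw [hx] at this
        simpa using this⟩
      rw [h, Subgroup.mem_bot] at h2
      rw [show x = 1 from Subtype.ext h2, orderOf_one] at hx
      exact hq.ne_one hx.symm
    refine le_centralizer_of_elementary hM hR hHr hHL hRL hRH hperf hHR hc
      (fun u hu => (hWL ▸ hu : u ∈ W).2) hfix fun A hA hHA hRA => hno A hA ?_ hHA hRA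
    exact Subgroup.le_normalizer_iff.mpr fun a ha x hx => by
      rw [hc a ha x (hA hx), mul_inv_cancel_right]; exact hx
  -- `L` is not solvable
  have hO : ∀ N : Subgroup L, N.Normal → Odd (Nat.card N) → N = ⊥ := by
    intro N hN hodd
    haveI := hN
    have h1 : N ≤ Cfsg.pPrimeCore 2 L := PLocal.Cores.le_pPrimeCore
      (Nat.coprime_two_right.mpr hodd)
    rcases hchar (Cfsg.pPrimeCore 2 L) PLocal.Cores.pPrimeCore_characteristic with h | h
    · exact le_bot_iff.mp (h ▸ h1)
    · exfalso
      apply hsolv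
      apply Cfsg.Agent.S0205.result
      have := PLocal.Cores.coprime_card_pPrimeCore (p := 2) (G := L)
      rw [h, Subgroup.card_top] at this
      exact Nat.coprime_two_right.mp this
  have hO2 : Cfsg.pCore 2 L = ⊥ := by
    refine (hchar _ inferInstance).resolve_right fun h => hsolv ?_
    exact Coprime.isSolvable_of_isPGroup (PLocal.Cores.isPGroup_iff_pCore_eq_top.mpr h)
  have hZ : L ⊓ centralizer (L : Set X) = ⊥ := by
    rcases hchar (Subgroup.center L) inferInstance with h | h
    · rw [eq_bot_iff]
      intro x hx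
      have h2 : (⟨x, hx.1⟩ : L) ∈ Subgroup.center L := Subgroup.mem_center_iff.mpr fun g =>
        Subtype.ext (Subgroup.mem_centralizer_iff.mp hx.2 g g.2)
      rw [h, Subgroup.mem_bot] at h2
      exact congrArg Subtype.val h2
    · exact absurd (Group.isSolvable_of_comm fun a b =>
        (Subgroup.mem_center_iff.mp (h ▸ Subgroup.mem_top b : b ∈ Subgroup.center L) a)) hsolv
  -- a perfect group covering `H` modulo `L` and centralising a Sylow 2-subgroup of `L`
  suffices hD : ∃ (D : Subgroup X) (S : Sylow 2 L), D ≤ normalizer (L : Set X) ∧ ⁅D, D⁆ = D ∧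
      D ≤ centralizer (((S : Subgroup L).map L.subtype : Subgroup X) : Set X) ∧ H ≤ L ⊔ D by
    obtain ⟨D, S, hDL, hDperf, hDS, hHD⟩ := hD
    refine le_centralizer_of_inner hR hLr hRL hRH hHL hperf hfix hZ
      (hHD.trans (sup_le le_sup_left ?_))
    exact (le_centralizer_of_sylow_two hDL hDperf hO S hDS).trans le_sup_right
  set C0 := L ⊓ centralizer (R : Set X) with hC0
  by_cases heven : 2 ∣ Nat.card C0
  · -- the fixed points have even order
    set M := L ⊓ centralizer (H : Set X) with hM'
    have hC0M : C0 ≤ M := le_inf inf_le_left (Subgroup.le_centralizer_iff.mp hfix)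
    have hRM : R ≤ normalizer (M : Set X) :=
      le_trans (le_inf hRL (normalizer_le_normalizer_centralizer' hRH))
        Subgroup.inf_normalizer_le_normalizer_inf
    obtain ⟨P₁, hP₁⟩ := Coprime.exists_invariant_sylow 2 hRM
      (hRLcop.coprime_dvd_right (Subgroup.card_dvd_of_le inf_le_left)) (Or.inl hRsolv)
    set P := (P₁ : Subgroup M).map M.subtype with hP
    have hPM : P ≤ M := Subgroup.map_subtype_le _
    have hPL : P ≤ L := hPM.trans inf_le_left
    have hPc : Nat.card P = Nat.card (P₁ : Subgroup M) := Subgroup.card_subtype M (P₁ : Subgroup M)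
    have hP2 : IsPGroup 2 P := P₁.2.map _
    have hPne : P ≠ ⊥ := by
      intro h
      have h2 : (P₁ : Subgroup M) = ⊥ :=
        (Subgroup.map_eq_bot_iff_of_injective _ M.subtype_injective).mp h
      apply P₁.not_dvd_index
      rw [h2, Subgroup.index_bot]
      exact heven.trans (Subgroup.card_dvd_of_le hC0M)
    set N := L ⊓ normalizer (P : Set X) with hN
    have hHP : H ≤ centralizer (P : Set X) :=
      (Subgroup.le_centralizer_iff.mp (inf_le_right : M ≤ centralizer (H : Set X))).trans
        (centralizer_le hPM)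
    have hHN : H ≤ normalizer (N : Set X) :=
      le_trans (le_inf hHL ((hHP.trans (centralizer_le_normalizer _)).trans le_normalizer))
        Subgroup.inf_normalizer_le_normalizer_inf
    have hRN : R ≤ normalizer (N : Set X) :=
      le_trans (le_inf hRL (hP₁.trans le_normalizer)) Subgroup.inf_normalizer_le_normalizer_inf
    have hNne : N ≠ L := by
      intro h
      apply hPne
      have h1 : L ≤ normalizer (P : Set X) := h.symm.le.trans inf_le_right
      have h2 := PLocal.Cores.le_map_pCore_of_le_normalizer hP2 hPL h1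
      rw [hO2, Subgroup.map_bot] at h2
      exact le_bot_iff.mp h2
    have hNM : N ≤ M := le_inf inf_le_left (Subgroup.le_centralizer_iff.mp
      (ih _ (hlt N inf_le_left hNne) X R N H r rfl hR
        (hLr.coprime_dvd_left (Subgroup.card_dvd_of_le inf_le_left)) hHr hRN hRH hHN hperf hHR
        (hfix.trans (centralizer_le fun _ hx => ⟨hx.1.1, hx.2⟩))))
    -- `P` is a Sylow subgroup of `L`
    obtain ⟨S, hS⟩ := (hP2.comap_subtype (K := L)).exists_le_sylow
    refine ⟨H, S, hHL, hperf, hHP.trans (centralizer_le ?_), le_sup_right⟩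
    suffices h : (S : Subgroup L) = P.subgroupOf L by
      rw [h, Subgroup.map_subgroupOf_eq_of_le hPL]
    set S' := (S : Subgroup L).map L.subtype with hS'
    have hPS : P ≤ S' := by
      rw [hS', ← Subgroup.map_subgroupOf_eq_of_le hPL]; exact Subgroup.map_mono hS
    have hS'2 : IsPGroup 2 S' := S.2.map _
    -- the normalizer of `P` in `S'`
    have hsub : S' ⊓ normalizer (P : Set X) ≤ P := by
      have h1 : S' ⊓ normalizer (P : Set X) ≤ M :=
        le_trans (le_inf (inf_le_left.trans (Subgroup.map_subtype_le _)) inf_le_right) hNM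
      have h2 : IsPGroup 2 ((S' ⊓ normalizer (P : Set X)).subgroupOf M) :=
        (hS'2.to_le inf_le_left).comap_subtype
      have h3 : (P₁ : Subgroup M) ≤ (S' ⊓ normalizer (P : Set X)).subgroupOf M := fun x hx =>
        ⟨hPS ⟨x, hx, rfl⟩, le_normalizer (H := P) ⟨x, hx, rfl⟩⟩
      have h4 := P₁.3 h2 h3
      intro x hx
      exact ⟨⟨x, h1 hx⟩, (h4 ▸ (show (⟨x, h1 hx⟩ : M) ∈
        (S' ⊓ normalizer (P : Set X)).subgroupOf M from hx) :), rfl⟩
    have hPeq : P = S' := by
      by_contra hne
      haveI : Group.IsNilpotent S' := hS'2.isNilpotent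
      have hlt' : P.subgroupOf S' < ⊤ := by
        rw [lt_top_iff_ne_top, Ne, Subgroup.subgroupOf_eq_top]
        exact fun h => hne (le_antisymm hPS h)
      have h5 := Group.normalizerCondition_of_isNilpotent (P.subgroupOf S') hlt'
      apply h5.not_ge
      intro x hx
      rw [← Subgroup.subgroupOf_normalizer_eq hPS] at hx
      exact hsub ⟨x.2, hx⟩
    rw [hPeq, hS', Subgroup.subgroupOf,
      Subgroup.comap_map_eq_self_of_injective L.subtype_injective]
  · -- the fixed points have odd order
    obtain ⟨S, hS⟩ := Coprime.exists_invariant_sylow 2 hRL hRLcop (Or.inl hRsolv)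
    set S' := (S : Subgroup L).map L.subtype with hS'
    have hS'L : S' ≤ L := Subgroup.map_subtype_le _
    set J := (L ⊔ H) ⊓ normalizer (S' : Set X) with hJ
    have hJL : J ≤ normalizer (L : Set X) := inf_le_left.trans (sup_le le_normalizer hHL)
    have hcover : H ≤ L ⊔ J := by
      intro h hh
      have hconj : MulAut.conj h • S' ≤ L := fun x hx => by
        rw [Coprime.mem_conj_smul] at hx
        have := (Subgroup.le_normalizer_iff.mp hHL) h hh _ (hS'L hx)
        simpa [mul_assoc] using this
      obtain ⟨l, hl, hleq⟩ := Coprime.exists_conj_sylow_map hconj S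
        (by rw [Coprime.card_conj_smul, hS', Subgroup.card_subtype])
      have h2 : l⁻¹ * h ∈ J := by
        refine ⟨mul_mem (Subgroup.mem_sup_left (inv_mem hl)) (Subgroup.mem_sup_right hh), ?_⟩
        show l⁻¹ * h ∈ normalizer (S' : Set X)
        rw [← Coprime.conj_smul_eq_self_iff, Coprime.conj_smul_mul, hleq,
          Coprime.conj_inv_smul_smul]
      simpa using mul_mem (Subgroup.mem_sup_left hl : l ∈ L ⊔ J) (Subgroup.mem_sup_right h2)
    have hRJ : R ≤ normalizer (J : Set X) := by
      refine le_trans (le_inf ?_ (hS.trans le_normalizer)) Subgroup.inf_normalizer_le_normalizer_inf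
      intro x hx
      rw [← Coprime.conj_smul_eq_self_iff, Subgroup.smul_sup,
        Coprime.conj_smul_eq_self_iff.mpr (hRL hx), Coprime.conj_smul_eq_self_iff.mpr (hRH hx)]
    obtain ⟨D, hDJ, ⟨hRD, hHD⟩, hmin⟩ := Components.Basic.exists_minimal_le
      (fun D : Subgroup X => R ≤ normalizer (D : Set X) ∧ H ≤ L ⊔ D) (H := J) ⟨hRJ, hcover⟩
    have hDL : D ≤ normalizer (L : Set X) := hDJ.trans hJL
    have hDperf : ⁅D, D⁆ = D := by
      refine hmin _ (Subgroup.commutator_le_self D) ⟨?_, ?_⟩
      · intro x hx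
        rw [← Coprime.conj_smul_eq_self_iff, Coprime.conj_smul_commutator,
          Coprime.conj_smul_eq_self_iff.mpr (hRD hx)]
      · rw [← hperf]
        exact (Subgroup.commutator_mono hHD hHD).trans (commutator_sup_le hDL hDL)
    have hDR : ⁅D, R⁆ = D := by
      refine hmin _ (Coprime.commutator_le_of_le_normalizer hRD)
        ⟨Subgroup.normalizer_commutator_ge_right D R, ?_⟩
      rw [← hHR]
      exact (Subgroup.commutator_mono hHD (le_sup_right : R ≤ L ⊔ R)).trans
        (commutator_sup_le hDL hRL)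
    have hDS : D ≤ normalizer (S' : Set X) := hDJ.trans inf_le_right
    have hcopD : (Nat.card D).Coprime r :=
      (coprime_card_sup hHL hLr hHr).coprime_dvd_left
        (Subgroup.card_dvd_of_le (hDJ.trans inf_le_left))
    have hfp : S' ⊓ centralizer (R : Set X) = ⊥ := by
      refine Subgroup.eq_bot_of_card_eq _ ?_
      obtain ⟨k, hk⟩ := IsPGroup.iff_card.mp
        ((S.2.map L.subtype).to_le (inf_le_left : S' ⊓ centralizer (R : Set X) ≤ S'))
      rw [hk]
      rcases Nat.eq_zero_or_pos k with h | h
      · simp [h]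
      · exfalso
        apply heven
        refine (dvd_pow_self 2 h.ne').trans (hk ▸ Subgroup.card_dvd_of_le ?_)
        exact inf_le_inf_right _ hS'L
    have hSne : S' ≠ L := fun h => hsolv (by
      have h2 : IsPGroup 2 S' := S.2.map _
      rw [h] at h2
      exact Coprime.isSolvable_of_isPGroup h2)
    refine ⟨D, S, hDL, hDperf, ?_, hHD⟩
    refine ih _ (hlt S' hS'L hSne) X R S' D r rfl hR
      (hLr.coprime_dvd_left (Subgroup.card_dvd_of_le hS'L)) hcopD hS hRD hDS hDperf hDR ?_
    rw [hfp]
    intro d _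
    rw [Subgroup.mem_centralizer_iff]
    intro u hu
    rw [Subgroup.coe_bot, Set.mem_singleton_iff] at hu
    simp [hu]

end Cfsg.Agent.Lib.PGroups.CoprimeLayer
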