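import Cfsg.Agent.Lib.PGroups.CoprimeLayer.Fixed
import Cfsg.Agent.Lib.Components.Fitting
import Cfsg.Agent.Lib.Components.Layer

/-!
The layer of an invariant subgroup `H = [H, R]` lies in the layer of the group
(`R` of prime order acting coprimely).
-/

set_option autoImplicit false
set_option linter.unusedSectionVars false
set_option linter.style.haveILetI false

namespace Cfsg.Agent.Lib.PGroups.CoprimeLayer

open Subgroup
open Cfsg.Agent.Components.Basic
open scoped commutatorElement Pointwise

universe u

variable {X : Type u} [Group X]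

/-- `D` is a component of the subgroup `H`. -/
def CompIn (H D : Subgroup X) : Prop := D ≤ H ∧ Cfsg.IsComponent (D.subgroupOf H)

theorem CompIn.perfect {H D : Subgroup X} (h : CompIn H D) : ⁅D, D⁆ = D := by
  have := congrArg (Subgroup.map H.subtype) (component_commutator_self h.2)
  rwa [map_commutator, Subgroup.map_subgroupOf_eq_of_le h.1] at this

theorem CompIn.ne_bot {H D : Subgroup X} (h : CompIn H D) : D ≠ ⊥ := by
  intro hb
  apply component_ne_bot h.2
  rw [hb, Subgroup.bot_subgroupOf]

theorem CompIn.not_isSolvable {H D : Subgroup X} (h : CompIn H D) : ¬ Group.IsSolvable D := fun hs =>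
  component_not_isSolvable h.2 (Group.isSolvable_of_isSolvable_injective
    (f := (Subgroup.subgroupOfEquivOfLe h.1).toMonoidHom) (MulEquiv.injective _))

theorem CompIn.mk' {H : Subgroup X} {D : Subgroup H} (h : Cfsg.IsComponent D) :
    CompIn H (D.map H.subtype) :=
  ⟨Subgroup.map_subtype_le D, by
    rwa [Subgroup.subgroupOf, Subgroup.comap_map_eq_self_of_injective H.subtype_injective]⟩

/-- Components are permuted by the normalizer. -/
theorem CompIn.conj {H D : Subgroup X} (h : CompIn H D) {x : X}
    (hx : x ∈ normalizer (H : Set X)) : CompIn H (MulAut.conj x • D) := by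
  let e : H ≃* H :=
    { toFun := fun v => ⟨x * v * x⁻¹, (Subgroup.mem_normalizer_iff.mp hx v).mp v.2⟩
      invFun := fun v => ⟨x⁻¹ * v * x, (Subgroup.mem_normalizer_iff.mp hx _).mpr
        (by simp [mul_assoc])⟩
      left_inv := fun v => Subtype.ext (by simp [mul_assoc])
      right_inv := fun v => Subtype.ext (by simp [mul_assoc])
      map_mul' := fun v w => Subtype.ext (by simp [mul_assoc]) }
  have h2 := CompIn.mk' ((isComponent_map_equiv e _).mpr h.2)
  convert h2 using 1
  rw [Subgroup.map_map, Coprime.conj_smul_eq_map]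
  conv_lhs => rw [← Subgroup.map_subgroupOf_eq_of_le h.1, Subgroup.map_map]
  rfl

/-- Distinct components of `H` commute. -/
theorem CompIn.commute [Finite X] {H D E : Subgroup X} (hD : CompIn H D) (hE : CompIn H E)
    (hne : D ≠ E) : ⁅D, E⁆ = ⊥ := by
  have h := component_commutator_eq_bot_of_ne hD.2 hE.2 fun h => hne (by
    have := congrArg (Subgroup.map H.subtype) h
    rwa [Subgroup.map_subgroupOf_eq_of_le hD.1, Subgroup.map_subgroupOf_eq_of_le hE.1] at this)
  have := congrArg (Subgroup.map H.subtype) h
  rwa [map_commutator, Subgroup.map_subgroupOf_eq_of_le hD.1,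
    Subgroup.map_subgroupOf_eq_of_le hE.1, Subgroup.map_bot] at this

/-- A product of components, as a subgroup normalized by each component. -/
theorem CompIn.le_normalizer_sSup [Finite X] {H D : Subgroup X} (hD : CompIn H D)
    {P : Set (Subgroup X)} (hP : ∀ E ∈ P, CompIn H E) :
    D ≤ normalizer ((sSup P : Subgroup X) : Set X) := by
  by_cases h : D ∈ P
  · exact (le_sSup h).trans le_normalizer
  · refine le_trans ?_ (centralizer_le_normalizer _)
    refine Subgroup.le_centralizer_iff.mp (sSup_le fun E hE => ?_)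
    exact Subgroup.commutator_eq_bot_iff_le_centralizer.mp
      ((hP E hE).commute hD fun he => h (he ▸ hE))

/-- A component lies in, or centralizes, a subgroup normal in a product of components. -/
theorem CompIn.le_or_commute [Finite X] {H D Q : Subgroup X} (hD : CompIn H D)
    {P : Set (Subgroup X)} (hP : ∀ E ∈ P, CompIn H E) (hQ : Q ≤ sSup P)
    (hQn : sSup P ≤ normalizer (Q : Set X)) : D ≤ Q ∨ ⁅D, Q⁆ = ⊥ := by
  have hEH : sSup P ≤ H := sSup_le fun E hE => (hP E hE).1
  set E0 := (sSup P).subgroupOf H with hE0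
  have hle : E0 ≤ Cfsg.layer H := by
    have : sSup P ≤ (Cfsg.layer H).map H.subtype := sSup_le fun E hE => by
      rw [← Subgroup.map_subgroupOf_eq_of_le (hP E hE).1]
      exact Subgroup.map_mono (le_layer (hP E hE).2)
    intro x hx
    obtain ⟨y, hy, hyx⟩ := this hx
    rwa [← H.subtype_injective hyx]
  have hn : Cfsg.layer H ≤ normalizer (E0 : Set H) := by
    refine layer_le fun L hL => ?_
    have h1 := (CompIn.mk' hL).le_normalizer_sSup hP
    rw [← Subgroup.subgroupOf_normalizer_eq hEH]
    intro x hx
    exact h1 ⟨x, hx, rfl⟩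
  have hE0s : E0.IsSubnormal :=
    IsSubnormal.trans hle (normal_subgroupOf_of_le_normalizer hn).isSubnormal
      (inferInstance : (Cfsg.layer H).Normal).isSubnormal
  have hQ0 : (Q.subgroupOf H).IsSubnormal :=
    IsSubnormal.trans (Subgroup.comap_mono hQ)
      (normal_subgroupOf_of_le_normalizer (by
        rw [← Subgroup.subgroupOf_normalizer_eq (hQ.trans hEH)]
        exact Subgroup.comap_mono hQn)).isSubnormal hE0s
  rcases component_le_or_commutator_eq_bot hD.2 hQ0 with h | h
  · left
    intro x hx
    exact h (show (⟨x, hD.1 hx⟩ : H) ∈ D.subgroupOf H from hx)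
  · right
    have := congrArg (Subgroup.map H.subtype) h
    rwa [map_commutator, Subgroup.map_subgroupOf_eq_of_le hD.1,
      Subgroup.map_subgroupOf_eq_of_le (hQ.trans hEH), Subgroup.map_bot] at this

/-- A subgroup of `G` centralising the layer and the Fitting subgroup of `G` is abelian. -/
theorem commutator_eq_bot_of_centralizes [Finite X] {G E : Subgroup X} (hEG : E ≤ G)
    (hL : E ≤ centralizer (((Cfsg.layer G).map G.subtype : Subgroup X) : Set X))
    (hF : E ≤ centralizer (((Cfsg.fittingSubgroup G).map G.subtype : Subgroup X) : Set X)) :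
    ⁅E, E⁆ = ⊥ := by
  have h1 : E.subgroupOf G ≤
      centralizer (Cfsg.generalizedFittingSubgroup G : Set G) := by
    rw [Subgroup.le_centralizer_iff]
    refine sup_le ?_ ?_
    · intro y hy
      rw [Subgroup.mem_centralizer_iff]
      intro x hx
      exact Subtype.ext (Subgroup.mem_centralizer_iff.mp (hL hx) (y : X) ⟨y, hy, rfl⟩).symm
    · intro y hy
      rw [Subgroup.mem_centralizer_iff]
      intro x hx
      exact Subtype.ext (Subgroup.mem_centralizer_iff.mp (hF hx) (y : X) ⟨y, hy, rfl⟩).symm
  have h2 : ⁅E.subgroupOf G, E.subgroupOf G⁆ = ⊥ :=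
    Subgroup.commutator_eq_bot_iff_le_centralizer.mpr (h1.trans (centralizer_le
      (h1.trans Components.Fitting.centralizer_genFitting_le)))
  have := congrArg (Subgroup.map G.subtype) h2
  rwa [map_commutator, Subgroup.map_subgroupOf_eq_of_le hEG, Subgroup.map_bot] at this

/-- The layer of `H = [H, R]` lies in the layer of `G`. -/
theorem layer_le_layer [Finite X] (hM : ModuleStep.{u}) {G R H : Subgroup X} {r : ℕ}
    [Fact r.Prime] (hR : Nat.card R = r) (hcop : (Nat.card G).Coprime r)
    (hnorm : R ≤ normalizer (G : Set X)) (hHG : H ≤ G)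
    (hHinv : R ⊔ (G ⊓ centralizer (R : Set X)) ≤ normalizer (H : Set X)) (hHR : ⁅H, R⁆ = H) :
    (Cfsg.layer H).map H.subtype ≤ (Cfsg.layer G).map G.subtype := by
  set LG := (Cfsg.layer G).map G.subtype with hLG
  set FG := (Cfsg.fittingSubgroup G).map G.subtype with hFG
  have hLGle : LG ≤ G := Subgroup.map_subtype_le _
  have hFGle : FG ≤ G := Subgroup.map_subtype_le _
  have hGL : G ≤ normalizer (LG : Set X) := char_invariant _ le_normalizer
  have hGF : G ≤ normalizer (FG : Set X) := char_invariant _ le_normalizer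
  have hRL : R ≤ normalizer (LG : Set X) := char_invariant _ hnorm
  have hRF : R ≤ normalizer (FG : Set X) := char_invariant _ hnorm
  set C0 := G ⊓ centralizer (R : Set X) with hC0
  -- the components moved by `R` and not in the layer of `G`
  set P : Set (Subgroup X) := {D | CompIn H D ∧ ⁅D, R⁆ ≠ ⊥ ∧ ¬ D ≤ LG} with hP
  have hPinv : ∀ x ∈ normalizer (H : Set X), x ∈ normalizer (LG : Set X) →
      x ∈ normalizer (R : Set X) → ∀ D ∈ P, MulAut.conj x • D ∈ P := by
    intro x hxH hxL hxR D hD
    refine ⟨hD.1.conj hxH, fun h => hD.2.1 ?_, fun h => hD.2.2 ?_⟩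
    · rw [← Coprime.conj_smul_eq_self_iff.mpr hxR, ← Coprime.conj_smul_commutator] at h
      rw [← Coprime.conj_inv_smul_smul x ⁅D, R⁆, h, Subgroup.smul_bot]
    · rw [← Coprime.conj_smul_eq_self_iff.mpr hxL] at h
      exact Subgroup.pointwise_smul_le_pointwise_smul_iff.mp h
  set E := sSup P with hE
  have hEinv : ∀ x ∈ normalizer (H : Set X), x ∈ normalizer (LG : Set X) →
      x ∈ normalizer (R : Set X) → MulAut.conj x • E ≤ E := by
    intro x hxH hxL hxR
    rw [Subgroup.pointwise_smul_subset_iff]
    refine sSup_le fun D hD => ?_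
    rw [← Subgroup.pointwise_smul_subset_iff]
    exact le_sSup (hPinv x hxH hxL hxR D hD)
  have hnormE : ∀ A : Subgroup X, A ≤ normalizer (H : Set X) → A ≤ normalizer (LG : Set X) →
      A ≤ normalizer (R : Set X) → A ≤ normalizer (E : Set X) := by
    intro A hAH hAL hAR
    refine Subgroup.le_normalizer_iff.mpr fun a ha e he => ?_
    refine hEinv a (hAH ha) (hAL ha) (hAR ha) ?_
    rw [Coprime.mem_conj_smul]
    simpa [mul_assoc] using he
  have hEH : E ≤ H := sSup_le fun D hD => hD.1.1
  have hEG : E ≤ G := hEH.trans hHG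
  have hRE : R ≤ normalizer (E : Set X) :=
    hnormE R (le_sup_left.trans hHinv) hRL le_normalizer
  have hCE : C0 ≤ normalizer (E : Set X) :=
    hnormE C0 (le_sup_right.trans hHinv) (inf_le_left.trans hGL)
      (inf_le_right.trans (centralizer_le_normalizer _))
  have hEperf : ⁅E, E⁆ = E := le_antisymm (Subgroup.commutator_le_self E)
    (sSup_le fun D hD => hD.1.perfect.symm.trans_le
      (Subgroup.commutator_mono (le_sSup hD) (le_sSup hD)))
  have hERE : ⁅E, R⁆ = E := by
    refine le_antisymm (Coprime.commutator_le_of_le_normalizer hRE) (sSup_le fun D hD => ?_)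
    refine (hD.1.le_or_commute (P := P) (fun D h => h.1)
      (Coprime.commutator_le_of_le_normalizer hRE)
      (Subgroup.normalizer_commutator_ge_left E R)).resolve_right fun h => hD.2.1 ?_
    apply commutator_eq_bot_of_perfect hD.1.perfect
    rw [Subgroup.commutator_comm]
    exact le_bot_iff.mp ((Subgroup.commutator_mono le_rfl
      (Subgroup.commutator_mono (le_sSup hD) le_rfl)).trans h.le)
  -- `E` centralises the fixed points in `FG` and in `LG`
  have hkey : ∀ A : Subgroup X, A ≤ G → E ≤ normalizer (A : Set X) →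
      R ≤ normalizer (A : Set X) → (∀ D ∈ P, ¬ D ≤ A) → E ≤ centralizer (A : Set X) := by
    intro A hAG hEA hRA hnot
    refine le_centralizer_of_fixed hM _ X R A E r rfl hR
      (hcop.coprime_dvd_left (Subgroup.card_dvd_of_le hAG))
      (hcop.coprime_dvd_left (Subgroup.card_dvd_of_le hEG)) hRA hRE hEA hEperf hERE ?_
    set A0 := A ⊓ centralizer (R : Set X) with hA0
    have hA0E : A0 ≤ normalizer (E : Set X) := (inf_le_inf_right _ hAG).trans hCE
    have hQE : ⁅A0, E⁆ ≤ E := Subgroup.le_normalizer_iff_commutator_le_right.mp hA0E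
    have hQA : ⁅A0, E⁆ ≤ A := (Subgroup.commutator_mono inf_le_left le_rfl).trans
      (Subgroup.le_normalizer_iff_commutator_le_left.mp hEA)
    have hcomm : ∀ D ∈ P, ⁅D, ⁅A0, E⁆⁆ = ⊥ := fun D hD =>
      (hD.1.le_or_commute (P := P) (fun D h => h.1) hQE
        (Subgroup.normalizer_commutator_ge_right A0 E)).resolve_left
        fun h => hnot D hD (h.trans hQA)
    have h1 : ⁅E, ⁅A0, E⁆⁆ = ⊥ := Subgroup.commutator_eq_bot_iff_le_centralizer.mpr
      (sSup_le fun D hD => Subgroup.commutator_eq_bot_iff_le_centralizer.mp (hcomm D hD))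
    refine Subgroup.commutator_eq_bot_iff_le_centralizer.mp
      (commutator_eq_bot_of_perfect hEperf ?_)
    rwa [Subgroup.commutator_comm E A0, Subgroup.commutator_comm]
  have hEL : E ≤ centralizer (LG : Set X) :=
    hkey LG hLGle (hEG.trans hGL) hRL fun D hD => hD.2.2
  have hEF : E ≤ centralizer (FG : Set X) := hkey FG hFGle (hEG.trans hGF) hRF fun D hD hle => by
    refine hD.1.not_isSolvable (Coprime.isSolvable_of_le hle ?_)
    haveI : Group.IsSolvable (Cfsg.fittingSubgroup G) := Components.Fitting.fitting_isSolvable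
    exact Coprime.isSolvable_map G.subtype inferInstance
  have hE1 : E = ⊥ := by
    rw [← hEperf]
    exact commutator_eq_bot_of_centralizes hEG hEL hEF
  -- every component moved by `R` is in the layer of `G`
  have hmoved : ∀ D, CompIn H D → ⁅D, R⁆ ≠ ⊥ → D ≤ LG := fun D hD hne => by
    by_contra h
    exact hD.ne_bot (le_bot_iff.mp (hE1 ▸ le_sSup (show D ∈ P from ⟨hD, hne, h⟩)))
  -- the other components are centralised by `H`, so there are none
  set W := sSup {D | CompIn H D ∧ ¬ D ≤ LG} with hW
  have hWR : ⁅W, R⁆ = ⊥ := Subgroup.commutator_eq_bot_iff_le_centralizer.mpr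
    (sSup_le fun D hD => Subgroup.commutator_eq_bot_iff_le_centralizer.mp
      (not_not.mp fun hne => hD.2 (hmoved D hD.1 hne)))
  have hHW : H ≤ normalizer (W : Set X) := by
    refine Subgroup.le_normalizer_iff.mpr fun a ha e he => ?_
    have h2 : MulAut.conj a • W ≤ W := by
      rw [Subgroup.pointwise_smul_subset_iff]
      refine sSup_le fun D hD => ?_
      rw [← Subgroup.pointwise_smul_subset_iff]
      refine le_sSup ⟨hD.1.conj (le_normalizer (H := H) ha), fun h => hD.2 ?_⟩
      rw [← Coprime.conj_smul_eq_self_iff.mpr (hGL (hHG ha))] at h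
      exact Subgroup.pointwise_smul_le_pointwise_smul_iff.mp h
    refine h2 ?_
    rw [Coprime.mem_conj_smul]
    simpa [mul_assoc] using he
  have hHWc : ⁅H, W⁆ = ⊥ := by
    rw [← hHR, Subgroup.commutator_comm H R]
    refine Subgroup.commutator_commutator_eq_bot_of_rotate ?_ ?_
    · exact le_bot_iff.mp ((Subgroup.commutator_mono
        (Subgroup.le_normalizer_iff_commutator_le_right.mp hHW) le_rfl).trans hWR.le)
    · rw [hWR, Subgroup.commutator_bot_left]
  rw [Subgroup.map_le_iff_le_comap]
  refine layer_le fun L hL => Subgroup.map_le_iff_le_comap.mp ?_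
  by_contra hle
  have hD := CompIn.mk' hL
  refine hD.ne_bot ?_
  rw [← hD.perfect]
  exact le_bot_iff.mp ((Subgroup.commutator_mono hD.1
    (le_sSup (show L.map H.subtype ∈ {D | CompIn H D ∧ ¬ D ≤ LG} from ⟨hD, hle⟩))).trans
      hHWc.le)

end Cfsg.Agent.Lib.PGroups.CoprimeLayer
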