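import Cfsg.Agent.Lib.Coprime.Action
import Cfsg.Agent.Lib.Components.Basic

/-!
A perfect group `H = [H, R]` acting on an elementary abelian group, where `R` has prime order and
the fixed points of `R` are centralised by `H`.

The input from representation theory is taken as a hypothesis (`ModuleStep`): it is the nilpotency
of `[G, R]` when `R` of prime order acts coprimely on `G` and fixed-point-freely on an irreducible
module for `G R`.
-/

set_option autoImplicit false
set_option linter.unusedSectionVars false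
set_option linter.style.haveILetI false

namespace Cfsg.Agent.Lib.PGroups.CoprimeLayer

open Subgroup
open scoped commutatorElement

universe u

/-- Coprime fixed-point-free modules: the commutator with the acting group is nilpotent. -/
def ModuleStep : Prop :=
  ∀ (X : Type u) [Group X] [Finite X] (G R : Subgroup X) [G.Normal] (r : ℕ),
    G ⊔ R = ⊤ → r.Prime → Nat.card R = r → ¬ r ∣ Nat.card G →
    ∀ (q : ℕ) [Fact q.Prime] (V : Type u) [AddCommGroup V] [Module (ZMod q) V] [Finite V]
      [Nontrivial V] (ρ : Representation (ZMod q) X V), Function.Injective ρ →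
    (∀ W : Submodule (ZMod q) V, (∀ x : X, W.map (ρ x) ≤ W) → W = ⊥ ∨ W = ⊤) →
    (∀ v : V, (∀ x ∈ R, ρ x v = v) → v = 0) → Group.IsNilpotent ↥⁅G, R⁆

variable {X : Type u} [Group X]

/-- A perfect nilpotent subgroup is trivial. -/
theorem eq_bot_of_perfect_nilpotent {H : Subgroup X} (hp : ⁅H, H⁆ = H)
    (hn : Group.IsNilpotent H) : H = ⊥ := by
  haveI : Group.IsPerfect H := H.isPerfect_iff.mpr hp
  rcases subsingleton_or_nontrivial H with h | h
  · exact eq_bot_of_subsingleton H
  · exact absurd hn (Group.IsPerfect.not_isNilpotent H)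

/-- Whatever normalizes `H` normalizes its centralizer. -/
theorem normalizer_le_normalizer_centralizer' {H R : Subgroup X}
    (h : R ≤ normalizer (H : Set X)) :
    R ≤ normalizer ((centralizer (H : Set X) : Subgroup X) : Set X) := by
  rw [Subgroup.le_normalizer_iff]
  intro a ha c hc
  rw [Subgroup.mem_centralizer_iff]
  intro x hx
  have h1 := (Subgroup.le_normalizer_iff.mp h) a⁻¹ (inv_mem ha) x hx
  have h2 : a⁻¹ * x * a⁻¹⁻¹ * c = c * (a⁻¹ * x * a⁻¹⁻¹) :=
    Subgroup.mem_centralizer_iff.mp hc _ h1
  rw [inv_inv] at h2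
  calc x * (a * c * a⁻¹) = a * ((a⁻¹ * x * a) * c) * a⁻¹ := by group
    _ = a * (c * (a⁻¹ * x * a)) * a⁻¹ := by rw [h2]
    _ = a * c * a⁻¹ * x := by group

/-- Irreducible elementary abelian case. -/
theorem le_centralizer_of_elementary [Finite X] (hM : ModuleStep.{u}) {H R V : Subgroup X} {r q : ℕ}
    [Fact r.Prime] [Fact q.Prime] (hR : Nat.card R = r) (hcop : (Nat.card H).Coprime r)
    (hHV : H ≤ normalizer (V : Set X)) (hRV : R ≤ normalizer (V : Set X))
    (hRH : R ≤ normalizer (H : Set X)) (hperf : ⁅H, H⁆ = H) (hHR : ⁅H, R⁆ = H)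
    (hc : ∀ u ∈ V, ∀ v ∈ V, u * v = v * u) (hq : ∀ u ∈ V, u ^ q = 1)
    (hfix : H ≤ centralizer ((V ⊓ centralizer (R : Set X) : Subgroup X) : Set X))
    (hmin : ∀ W ≤ V, H ≤ normalizer (W : Set X) → R ≤ normalizer (W : Set X) → W = ⊥ ∨ W = V) :
    H ≤ centralizer (V : Set X) := by
  classical
  by_cases hfp : V ⊓ centralizer (R : Set X) = ⊥
  swap
  · rcases hmin (V ⊓ centralizer (H : Set X)) inf_le_left
      (le_trans (le_inf hHV (Coprime.le_normalizer_sup_inf_centralizer hHV)) inf_le_right)
      (le_trans (le_inf hRV (normalizer_le_normalizer_centralizer' hRH))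
        Subgroup.inf_normalizer_le_normalizer_inf) with h | h
    · exact absurd (le_bot_iff.mp (h ▸ le_inf inf_le_left
        (Subgroup.le_centralizer_iff.mp hfix))) hfp
    · exact Subgroup.le_centralizer_iff.mp (h.symm.le.trans inf_le_right)
  by_cases hV1 : V = ⊥
  · subst hV1
    intro h _
    rw [Subgroup.mem_centralizer_iff]
    intro u hu
    rw [Subgroup.coe_bot, Set.mem_singleton_iff] at hu
    simp [hu]
  -- the group induced on `V`
  set Y : Subgroup X := H ⊔ R with hY
  have hYV : Y ≤ normalizer (V : Set X) := sup_le hHV hRV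
  have hHY : H ≤ Y := le_sup_left
  have hRY : R ≤ Y := le_sup_right
  let conjV : Y →* MulAut V :=
    { toFun := fun y =>
        { toFun := fun v => ⟨y * v * (y : X)⁻¹, (Subgroup.le_normalizer_iff.mp hYV) y y.2 v v.2⟩
          invFun := fun v => ⟨(y : X)⁻¹ * v * y, by
            simpa using (Subgroup.le_normalizer_iff.mp hYV) (y : X)⁻¹ (inv_mem y.2) v v.2⟩
          left_inv := fun v => Subtype.ext (by simp [mul_assoc])
          right_inv := fun v => Subtype.ext (by simp [mul_assoc])
          map_mul' := fun v w => Subtype.ext (by simp [mul_assoc]) }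
      map_one' := by ext v; simp
      map_mul' := fun a b => by ext v; simp [mul_assoc] }
  letI : CommGroup V :=
    { (inferInstance : Group V) with mul_comm := fun u v => Subtype.ext (hc u u.2 v v.2) }
  letI : Module (ZMod q) (Additive V) :=
    AddCommGroup.zmodModule (n := q) fun t => (Subtype.ext (hq _ (Additive.toMul t).2) :
      (Additive.toMul t) ^ q = 1)
  let π := QuotientGroup.mk' conjV.ker
  let act : Y ⧸ conjV.ker →* MulAut V := QuotientGroup.kerLift conjV
  let ρ : Representation (ZMod q) (Y ⧸ conjV.ker) (Additive V) :=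
    { toFun := fun x => (MonoidHom.toAdditive (act x).toMonoidHom).toZModLinearMap q
      map_one' := LinearMap.ext fun t => by
        show Additive.ofMul (act 1 (Additive.toMul t)) = t
        rw [map_one]; rfl
      map_mul' := fun g h => LinearMap.ext fun t => by
        show Additive.ofMul (act (g * h) (Additive.toMul t)) =
          Additive.ofMul (act g (act h (Additive.toMul t)))
        rw [map_mul]; rfl }
  have hρ : ∀ (y : Y) (t : Additive V), ρ (π y) t = Additive.ofMul (conjV y (Additive.toMul t)) :=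
    fun _ _ => rfl
  have hinj : Function.Injective ρ := by
    intro a b h
    refine QuotientGroup.kerLift_injective conjV (MulEquiv.ext fun t => ?_)
    exact congrArg Additive.toMul (LinearMap.congr_fun h (Additive.ofMul t))
  set G' := (H.subgroupOf Y).map π with hG'
  set R' := (R.subgroupOf Y).map π with hR'
  haveI : (H.subgroupOf Y).Normal := (Subgroup.normal_subgroupOf_iff_le_normalizer le_sup_left).mpr
    (sup_le le_normalizer hRH)
  haveI hG'n : G'.Normal := Subgroup.Normal.map inferInstance π (QuotientGroup.mk'_surjective _)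
  have hGR : G' ⊔ R' = ⊤ := by
    rw [← Subgroup.map_sup, ← Subgroup.subgroupOf_sup le_sup_left le_sup_right,
      Subgroup.subgroupOf_self, Subgroup.map_top_of_surjective _ (QuotientGroup.mk'_surjective _)]
  have hR'card : Nat.card R' = r := by
    have hdvd : Nat.card R' ∣ r := hR ▸ ((Subgroup.card_map_dvd _ π).trans
      (dvd_of_eq (Nat.card_congr (Subgroup.subgroupOfEquivOfLe le_sup_right).toEquiv)))
    refine ((Fact.out : r.Prime).eq_one_or_self_of_dvd _ hdvd).resolve_left fun h1 => hV1 ?_
    rw [← hfp, eq_comm, inf_eq_left]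
    intro v hv
    rw [Subgroup.mem_centralizer_iff]
    intro a ha
    have h2 : π ⟨a, hRY ha⟩ = 1 := by
      rw [← Subgroup.mem_bot, ← Subgroup.card_eq_one.mp h1]
      exact ⟨⟨a, hRY ha⟩, ha, rfl⟩
    have h3 : conjV ⟨a, hRY ha⟩ = 1 := (QuotientGroup.eq_one_iff _).mp h2
    have h4 := congrArg (fun e : MulAut V => ((e ⟨v, hv⟩ : V) : X)) h3
    simpa [conjV, mul_inv_eq_iff_eq_mul] using h4
  have hG'cop : ¬ r ∣ Nat.card G' := by
    intro h
    refine (Fact.out : r.Prime).not_dvd_one (hcop ▸ Nat.dvd_gcd ?_ dvd_rfl)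
    exact h.trans ((Subgroup.card_map_dvd _ π).trans
      (dvd_of_eq (Nat.card_congr (Subgroup.subgroupOfEquivOfLe le_sup_left).toEquiv)))
  haveI : Nontrivial (Additive V) :=
    (Subgroup.nontrivial_iff_ne_bot V).mpr hV1
  have hnil := hM (Y ⧸ conjV.ker) G' R' r hGR Fact.out hR'card hG'cop q (Additive V) ρ hinj ?_ ?_
  · -- the image of `H` is perfect and nilpotent
    have hsub : ∀ A B : Subgroup X, A ≤ Y → B ≤ Y →
        (⁅A, B⁆).subgroupOf Y = ⁅A.subgroupOf Y, B.subgroupOf Y⁆ := by
      intro A B hA hB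
      apply Subgroup.map_injective Y.subtype_injective
      rw [map_commutator, Subgroup.map_subgroupOf_eq_of_le hA, Subgroup.map_subgroupOf_eq_of_le hB,
        Subgroup.map_subgroupOf_eq_of_le]
      exact (Subgroup.commutator_mono hA hB).trans (Subgroup.commutator_le_self Y)
    have h1 : ⁅G', R'⁆ = G' := by
      rw [← map_commutator, ← hsub H R le_sup_left le_sup_right, hHR]
    have h2 : ⁅G', G'⁆ = G' := by
      rw [← map_commutator, ← hsub H H le_sup_left le_sup_left, hperf]
    rw [h1] at hnil
    have hbot := eq_bot_of_perfect_nilpotent h2 hnil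
    intro h hh
    rw [Subgroup.mem_centralizer_iff]
    intro v hv
    have h2 : π ⟨h, hHY hh⟩ = 1 := by
      rw [← Subgroup.mem_bot, ← hbot]
      exact ⟨⟨h, hHY hh⟩, hh, rfl⟩
    have h3 : conjV ⟨h, hHY hh⟩ = 1 := (QuotientGroup.eq_one_iff _).mp h2
    have h4 := congrArg (fun e : MulAut V => ((e ⟨v, hv⟩ : V) : X)) h3
    exact (by simpa [conjV, mul_inv_eq_iff_eq_mul] using h4 : h * v = v * h).symm
  · intro W hW
    let W' : Subgroup X := (AddSubgroup.toSubgroup' W.toAddSubgroup).map V.subtype
    have hW'V : W' ≤ V := Subgroup.map_subtype_le _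
    have hinv : ∀ y : Y, ∀ v ∈ W', (y : X) * v * (y : X)⁻¹ ∈ W' := by
      rintro y _ ⟨v, hv, rfl⟩
      have : ρ (π y) (Additive.ofMul v) ∈ W := hW (π y) ⟨_, hv, rfl⟩
      exact ⟨conjV y v, this, rfl⟩
    have hN : Y ≤ normalizer (W' : Set X) :=
      Subgroup.le_normalizer_iff.mpr fun y hy v hv => hinv ⟨y, hy⟩ v hv
    rcases hmin W' hW'V (le_sup_left.trans hN) (le_sup_right.trans hN) with h | h
    · left
      rw [Submodule.eq_bot_iff]
      intro t ht
      have hmem : ((Additive.toMul t : V) : X) ∈ W' := ⟨Additive.toMul t, ht, rfl⟩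
      rw [h, Subgroup.mem_bot] at hmem
      exact congrArg Additive.ofMul (Subtype.ext hmem : Additive.toMul t = (1 : V))
    · right
      rw [Submodule.eq_top_iff']
      intro t
      have hmem : ((Additive.toMul t : V) : X) ∈ W' := h.symm ▸ (Additive.toMul t).2
      obtain ⟨v, hv, hvt⟩ := hmem
      rw [Subtype.ext (show ((v : V) : X) = _ from hvt)] at hv
      exact hv
  · intro t ht
    have hmem : ((Additive.toMul t : V) : X) ∈ V ⊓ centralizer (R : Set X) := by
      refine ⟨(Additive.toMul t).2, Subgroup.mem_centralizer_iff.mpr fun a ha => ?_⟩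
      have h := ht (π ⟨a, hRY ha⟩) ⟨⟨a, hRY ha⟩, ha, rfl⟩
      rw [hρ] at h
      have h4 := congrArg (fun e : Additive V => ((Additive.toMul e : V) : X)) h
      simpa [conjV, mul_inv_eq_iff_eq_mul] using h4
    rw [hfp, Subgroup.mem_bot] at hmem
    exact congrArg Additive.ofMul (Subtype.ext hmem : Additive.toMul t = (1 : V))

end Cfsg.Agent.Lib.PGroups.CoprimeLayer
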