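import Cfsg.Agent.Lib.PGroups.CoprimeLayer.Module
import Cfsg.Agent.Lib.Coprime.Sylow
import Cfsg.Agent.Lib.Coprime.OmegaDetect
import Cfsg.Agent.Lib.PLocal.Cores
import Cfsg.Agent.S0205
import Cfsg.Agent.S0227
import Cfsg.Agent.Solvable.Thompson

/-!
Quotient bookkeeping, and the step at a Sylow `2`-subgroup: a perfect group centralising a Sylow
`2`-subgroup of a group with trivial odd core induces inner automorphisms.
-/

set_option autoImplicit false
set_option linter.unusedSectionVars false
set_option linter.style.haveILetI false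

namespace Cfsg.Agent.Lib.PGroups.CoprimeLayer

open Subgroup
open scoped commutatorElement Pointwise

universe u

variable {X : Type u} [Group X]

/-- Commutators pass through a normalized factor. -/
theorem commutator_sup_le {L A B : Subgroup X} (hA : A ≤ normalizer (L : Set X))
    (hB : B ≤ normalizer (L : Set X)) : ⁅L ⊔ A, L ⊔ B⁆ ≤ L ⊔ ⁅A, B⁆ := by
  set M := normalizer (L : Set X) with hM
  have hL : L ≤ M := le_normalizer
  haveI : (L.subgroupOf M).Normal :=
    (Subgroup.normal_subgroupOf_iff_le_normalizer hL).mpr le_rfl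
  set π := QuotientGroup.mk' (L.subgroupOf M) with hπ
  have key : ⁅(L ⊔ A).subgroupOf M, (L ⊔ B).subgroupOf M⁆ ≤
      L.subgroupOf M ⊔ ⁅A.subgroupOf M, B.subgroupOf M⁆ := by
    have hk : L.subgroupOf M ⊔ ⁅A.subgroupOf M, B.subgroupOf M⁆ =
        (⁅A.subgroupOf M, B.subgroupOf M⁆.map π).comap π := by
      rw [Subgroup.comap_map_eq, QuotientGroup.ker_mk', sup_comm]
    rw [hk, ← Subgroup.map_le_iff_le_comap, map_commutator, map_commutator,
      Subgroup.subgroupOf_sup hL hA, Subgroup.subgroupOf_sup hL hB, Subgroup.map_sup,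
      Subgroup.map_sup, (Subgroup.map_eq_bot_iff _).mpr (by rw [QuotientGroup.ker_mk']),
      bot_sup_eq, bot_sup_eq]
  have h2 := Subgroup.map_mono (f := M.subtype) key
  rwa [map_commutator, Subgroup.map_sup, map_commutator,
    Subgroup.map_subgroupOf_eq_of_le hL, Subgroup.map_subgroupOf_eq_of_le hA,
    Subgroup.map_subgroupOf_eq_of_le hB, Subgroup.map_subgroupOf_eq_of_le (sup_le hL hA),
    Subgroup.map_subgroupOf_eq_of_le (sup_le hL hB)] at h2

/-- `k = h c` with `h ∈ H` and `c` centralising `L`, for `H ≤ L ⊔ C(L)`. -/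
theorem exists_mul_centralizer {L H : Subgroup X} (hH : H ≤ L ⊔ centralizer (L : Set X)) {h : X}
    (hh : h ∈ H) : ∃ l ∈ L, ∃ c ∈ centralizer (L : Set X), h = l * c := by
  obtain ⟨l, hl, c, hc, rfl⟩ :=
    (Coprime.mem_sup_of_le_normalizer (centralizer_le_normalizer _)).mp (hH hh)
  exact ⟨l, hl, c, hc, rfl⟩

variable [Finite X]

/-- A perfect group centralising a Sylow `2`-subgroup of `L` centralises `L`, provided `L` has
trivial odd core. -/
theorem le_centralizer_of_sylow_two {L D : Subgroup X} (hDL : D ≤ normalizer (L : Set X))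
    (hD : ⁅D, D⁆ = D) (hO : ∀ N : Subgroup L, N.Normal → Odd (Nat.card N) → N = ⊥)
    (S : Sylow 2 L) (hDS : D ≤ centralizer (((S : Subgroup L).map L.subtype : Subgroup X) : Set X)) :
    D ≤ centralizer (L : Set X) := by
  classical
  let conjL : D →* MulAut L :=
    { toFun := fun y =>
        { toFun := fun v => ⟨y * v * (y : X)⁻¹, (Subgroup.le_normalizer_iff.mp hDL) y y.2 v v.2⟩
          invFun := fun v => ⟨(y : X)⁻¹ * v * y, by
            simpa using (Subgroup.le_normalizer_iff.mp hDL) (y : X)⁻¹ (inv_mem y.2) v v.2⟩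
          left_inv := fun v => Subtype.ext (by simp [mul_assoc])
          right_inv := fun v => Subtype.ext (by simp [mul_assoc])
          map_mul' := fun v w => Subtype.ext (by simp [mul_assoc]) }
      map_one' := by ext v; simp
      map_mul' := fun a b => by ext v; simp [mul_assoc] }
  let C : Subgroup (MulAut L) :=
    { carrier := {φ | ∀ s : L, s ∈ S → φ s = s}
      one_mem' := fun _ _ => rfl
      mul_mem' := fun {a b} ha hb s hs => by rw [MulAut.mul_apply, hb s hs, ha s hs]
      inv_mem' := fun {a} ha s hs => by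
        have h2 := congrArg (a⁻¹ : MulAut L) (ha s hs)
        rwa [MulAut.inv_apply_self, eq_comm] at h2 }
  have hsol : Group.IsSolvable C := (Cfsg.Agent.S0227.result hO S C (fun _ => Iff.rfl)).2
  have hrange : conjL.range ≤ C := by
    rintro _ ⟨y, rfl⟩ s hs
    refine Subtype.ext ?_
    show (y : X) * s * (y : X)⁻¹ = s
    rw [← Subgroup.mem_centralizer_iff.mp (hDS y.2) (s : X) ⟨s, hs, rfl⟩, mul_inv_cancel_right]
  haveI : Group.IsSolvable C := hsol
  haveI : Group.IsSolvable conjL.range :=
    Group.isSolvable_of_isSolvable_injective (f := Subgroup.inclusion hrange)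
      (Subgroup.inclusion_injective _)
  haveI : Group.IsPerfect D := D.isPerfect_iff.mpr hD
  haveI : Group.IsPerfect conjL.range := Group.IsPerfect.range conjL
  have hb : conjL.range = ⊥ := by
    rcases subsingleton_or_nontrivial conjL.range with h | h
    · exact eq_bot_of_subsingleton _
    · exact absurd (inferInstance : Group.IsSolvable conjL.range)
        (Group.IsPerfect.not_isSolvable (G := conjL.range))
  intro y hy
  rw [Subgroup.mem_centralizer_iff]
  intro l hl
  have h1 : conjL ⟨y, hy⟩ = 1 := by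
    rw [← Subgroup.mem_bot, ← hb]; exact ⟨_, rfl⟩
  have h2 := congrArg (fun e : MulAut L => ((e ⟨l, hl⟩ : L) : X)) h1
  have h3 : y * l * y⁻¹ = l := by simpa [conjL] using h2
  exact (mul_inv_eq_iff_eq_mul.mp h3).symm

/-- A perfect group inducing inner automorphisms on `L` and centralising the fixed points of `R`
on `L` centralises `L`, if `L` has trivial centre. -/
theorem le_centralizer_of_inner {R L H : Subgroup X} {r : ℕ} [Fact r.Prime] (hR : Nat.card R = r)
    (hL : (Nat.card L).Coprime r) (hRL : R ≤ normalizer (L : Set X))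
    (hRH : R ≤ normalizer (H : Set X)) (hHL : H ≤ normalizer (L : Set X)) (hperf : ⁅H, H⁆ = H)
    (hfix : H ≤ centralizer ((L ⊓ centralizer (R : Set X) : Subgroup X) : Set X))
    (hZ : L ⊓ centralizer (L : Set X) = ⊥) (hin : H ≤ L ⊔ centralizer (L : Set X)) :
    H ≤ centralizer (L : Set X) := by
  classical
  set CL := centralizer (L : Set X) with hCL
  have hHC : H ≤ normalizer (CL : Set X) := normalizer_le_normalizer_centralizer' hHL
  set K := L ⊓ (CL ⊔ H) with hK
  have hHK : H ≤ CL ⊔ K := by
    intro h hh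
    obtain ⟨l, hl, c, hc, rfl⟩ := exists_mul_centralizer hin hh
    have hlK : l ∈ K := ⟨hl, by
      simpa using mul_mem (Subgroup.mem_sup_right hh) (Subgroup.mem_sup_left (inv_mem hc) :
        c⁻¹ ∈ CL ⊔ H)⟩
    exact mul_mem (Subgroup.mem_sup_right hlK) (Subgroup.mem_sup_left hc)
  suffices hK1 : K = ⊥ by
    refine hHK.trans (sup_le le_rfl ?_)
    rw [hK1]
    exact bot_le
  -- `K` is perfect
  have hKL : K ≤ L := inf_le_left
  have hKC : K ≤ normalizer (CL : Set X) :=
    (hKL.trans le_normalizer).trans (normalizer_le_normalizer_centralizer' le_rfl)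
  have hKperf : ⁅K, K⁆ = K := by
    refine le_antisymm (Subgroup.commutator_le_self K) fun k hk => ?_
    have h1 : k ∈ CL ⊔ ⁅K, K⁆ := by
      have h0 : CL ⊔ H ≤ CL ⊔ ⁅K, K⁆ := by
        refine sup_le le_sup_left ?_
        rw [← hperf]
        exact (Subgroup.commutator_mono hHK hHK).trans (commutator_sup_le hKC hKC)
      exact h0 hk.2
    have hK' : ⁅K, K⁆ ≤ normalizer (CL : Set X) := (Subgroup.commutator_le_self K).trans hKC
    obtain ⟨c, hc, x, hx, rfl⟩ := (Coprime.mem_sup_of_le_normalizer hK').mp h1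
    have hxL : x ∈ L := hKL (Subgroup.commutator_le_self K hx)
    have hc1 : c = 1 := by
      rw [← Subgroup.mem_bot, ← hZ]
      exact ⟨(mul_mem_cancel_right hxL).mp (hKL hk), hc⟩
    simpa [hc1] using hx
  have hRK : R ≤ normalizer (K : Set X) := by
    refine le_trans (le_inf hRL ?_) Subgroup.inf_normalizer_le_normalizer_inf
    intro x hx
    rw [← Coprime.conj_smul_eq_self_iff, Subgroup.smul_sup,
      Coprime.conj_smul_eq_self_iff.mpr (normalizer_le_normalizer_centralizer' hRL hx),
      Coprime.conj_smul_eq_self_iff.mpr (hRH hx)]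
  have hcen : K ⊓ centralizer (R : Set X) ≤ centralizer (K : Set X) := by
    rintro k ⟨hk, hkR⟩
    have h1 : CL ⊔ H ≤ centralizer ({k} : Set X) := by
      refine sup_le ?_ ?_
      · intro c hc
        rw [Subgroup.mem_centralizer_singleton_iff]
        exact (Subgroup.mem_centralizer_iff.mp hc k (hKL hk)).symm
      · intro h hh
        rw [Subgroup.mem_centralizer_singleton_iff]
        exact (Subgroup.mem_centralizer_iff.mp (hfix hh) k ⟨hKL hk, hkR⟩).symm
    rw [Subgroup.mem_centralizer_iff]
    intro x hx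
    exact Subgroup.mem_centralizer_singleton_iff.mp (h1 hx.2)
  -- `R` is fixed-point-free on `K / Z(K)`
  obtain ⟨a, ha⟩ : ∃ a : X, a ∈ R ∧ a ≠ 1 := by
    haveI : Nontrivial R :=
      Finite.one_lt_card_iff_nontrivial.mp (hR ▸ (Fact.out : r.Prime).one_lt)
    obtain ⟨⟨a, ha⟩, hne⟩ := exists_ne (1 : R)
    exact ⟨a, ha, fun h => hne (Subtype.ext h)⟩
  let φ : MulAut K :=
    { toFun := fun v => ⟨a * v * a⁻¹, (Subgroup.le_normalizer_iff.mp hRK) a ha.1 v v.2⟩
      invFun := fun v => ⟨a⁻¹ * v * a, by
        simpa using (Subgroup.le_normalizer_iff.mp hRK) a⁻¹ (inv_mem ha.1) v v.2⟩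
      left_inv := fun v => Subtype.ext (by simp [mul_assoc])
      right_inv := fun v => Subtype.ext (by simp [mul_assoc])
      map_mul' := fun v w => Subtype.ext (by simp [mul_assoc]) }
  have hφpow : ∀ (n : ℕ) (v : K), (((φ ^ n : MulAut K) v : K) : X) = a ^ n * v * (a ^ n)⁻¹ := by
    intro n
    induction n with
    | zero => simp
    | succ n ih =>
      intro v
      rw [pow_succ', MulAut.mul_apply, pow_succ']
      show a * _ * a⁻¹ = _
      rw [ih v]
      group
  have hmapZ : (Subgroup.center K).map φ.toMonoidHom = Subgroup.center K :=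
    Subgroup.characteristic_iff_map_eq.mp inferInstance φ
  let φbar : MulAut (K ⧸ Subgroup.center K) := QuotientGroup.congr _ _ φ hmapZ
  have hφbar : ∀ v : K, φbar (v : K ⧸ Subgroup.center K) = ((φ v : K) : K ⧸ Subgroup.center K) :=
    fun v => rfl
  have hφbarpow : ∀ (n : ℕ) (v : K),
      (φbar ^ n) (v : K ⧸ Subgroup.center K) = (((φ ^ n) v : K) : K ⧸ Subgroup.center K) := by
    intro n
    induction n with
    | zero => simp
    | succ n ih => intro v; rw [pow_succ', MulAut.mul_apply, ih, hφbar, pow_succ', MulAut.mul_apply]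
  have har : a ^ r = 1 := by
    have h : (⟨a, ha.1⟩ : R) ^ r = 1 := hR ▸ pow_card_eq_one'
    simpa using congrArg Subtype.val h
  have hzp : Subgroup.zpowers a = R := by
    refine Subgroup.eq_of_le_of_card_ge ((Subgroup.zpowers_le).mpr ha.1) ?_
    rw [hR, Nat.card_zpowers]
    exact ((orderOf_eq_prime har ha.2) ▸ le_rfl)
  have hnil : Group.IsNilpotent (K ⧸ Subgroup.center K) := by
    refine Cfsg.Agent.Solvable.Thompson.isNilpotent_of_fixedPointFree φbar (Fact.out : r.Prime) ?_ ?_
    · intro x hx
      obtain ⟨v, rfl⟩ := QuotientGroup.mk_surjective x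
      rw [hφbar, QuotientGroup.eq, Subgroup.mem_center_iff] at hx
      set Z := (Subgroup.center K).map K.subtype with hZdef
      have hkey : (v : X)⁻¹ * (a * v * a⁻¹) ∈ Z := by
        refine ⟨v⁻¹ * φ v, ?_, rfl⟩
        have h' : ((φ v)⁻¹ * v)⁻¹ ∈ Subgroup.center K :=
          inv_mem (Subgroup.mem_center_iff.mpr hx)
        simpa using h'
      have hKZ : (K : Subgroup X) ≤ normalizer (Z : Set X) :=
        le_normalizer.trans (Coprime.OmegaDetect.normalizer_le_normalizer_char K _)
      have hRZ : R ≤ normalizer (Z : Set X) :=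
        hRK.trans (Coprime.OmegaDetect.normalizer_le_normalizer_char K _)
      have hfa : ∀ b ∈ R, (v : X)⁻¹ * (b * v * b⁻¹) ∈ Z := by
        intro b hb
        rw [← hzp] at hb
        obtain ⟨n, rfl⟩ := (mem_powers_iff_mem_zpowers.mpr hb : b ∈ Submonoid.powers a)
        induction n with
        | zero => simp
        | succ n ih =>
          have hn := ih (Subgroup.pow_mem _ (Subgroup.mem_zpowers a) n)
          have h3 : (v : X)⁻¹ * (a * v * a⁻¹) * (a * ((v : X)⁻¹ * (a ^ n * v * (a ^ n)⁻¹)) * a⁻¹)
              ∈ Z := mul_mem hkey ((Subgroup.le_normalizer_iff.mp hRZ) a ha.1 _ hn)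
          simpa [pow_succ', mul_assoc] using h3
      obtain ⟨z, hz, hzc⟩ := Coprime.exists_fixed_in_coset (A := R) (N := Z) hRZ
        (by
          rw [hR]
          refine ((Nat.Coprime.coprime_dvd_left ?_ hL)).symm
          exact Subgroup.card_dvd_of_le ((Subgroup.map_subtype_le _).trans hKL))
        (Or.inl (by
          haveI : IsCyclic R := isCyclic_of_prime_card hR
          exact Group.isSolvable_of_comm fun x y => by
            obtain ⟨g, hg⟩ := IsCyclic.exists_generator (α := R)
            obtain ⟨m, rfl⟩ := hg x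
            obtain ⟨n, rfl⟩ := hg y
            exact (Commute.zpow_zpow_self g m n).eq)) hfa
      obtain ⟨z', hz', rfl⟩ := hz
      have hmem : (v : X) * (z' : X) ∈ K ⊓ centralizer (R : Set X) :=
        ⟨mul_mem v.2 z'.2, hzc⟩
      have hvz : v * z' ∈ Subgroup.center K := by
        rw [Subgroup.mem_center_iff]
        intro g
        exact Subtype.ext (Subgroup.mem_centralizer_iff.mp (hcen hmem) g g.2)
      exact (QuotientGroup.eq_one_iff _).mpr (by simpa using mul_mem hvz (inv_mem hz'))
    · refine MulEquiv.ext fun x => ?_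
      obtain ⟨v, rfl⟩ := QuotientGroup.mk_surjective x
      rw [hφbarpow]
      have h4 : (φ ^ r) v = v := Subtype.ext (by rw [hφpow, har]; simp)
      rw [h4]; rfl
  exact eq_bot_of_perfect_nilpotent hKperf (Group.of_quotient_center_nilpotent hnil)

end Cfsg.Agent.Lib.PGroups.CoprimeLayer
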