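import Cfsg.Agent.Lib.PGroups.CoprimeLayer.Layer

/-!
The span of the conjugates of a quasisimple subgroup commuting with its distinct conjugates.
-/

set_option autoImplicit false
set_option linter.unusedSectionVars false
set_option linter.style.haveILetI false

namespace Cfsg.Agent.Lib.PGroups.CoprimeLayer

open Subgroup
open Cfsg.Agent.Components.Basic
open scoped commutatorElement Pointwise

universe u

variable {X : Type u} [Group X]

theorem quasi_perfect {K : Subgroup X} (hK : Cfsg.IsQuasisimple K) : ⁅K, K⁆ = K :=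
  K.isPerfect_iff.mp hK.1

theorem quasi_not_commute {K : Subgroup X} (hK : Cfsg.IsQuasisimple K) : ¬ ⁅K, K⁆ = ⊥ := by
  intro h
  rw [quasi_perfect hK] at h
  haveI := quasisimple_nontrivial hK
  exact (Subgroup.nontrivial_iff_ne_bot K).mp inferInstance h

/-- Normal subgroups of a quasisimple subgroup. -/
theorem quasi_eq_or_commute {K Q : Subgroup X} (hK : Cfsg.IsQuasisimple K) (hQK : Q ≤ K)
    (hn : K ≤ normalizer (Q : Set X)) : Q = K ∨ ⁅Q, K⁆ = ⊥ := by
  haveI : (Q.subgroupOf K).Normal := (Subgroup.normal_subgroupOf_iff_le_normalizer hQK).mpr hn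
  rcases quasisimple_eq_top_or_le_center_of_normal hK (Q.subgroupOf K) with h | h
  · exact Or.inl (le_antisymm hQK (Subgroup.subgroupOf_eq_top.mp h))
  · right
    rw [Subgroup.commutator_eq_bot_iff_le_centralizer]
    intro q hq
    rw [Subgroup.mem_centralizer_iff]
    intro k hk
    exact congrArg Subtype.val (Subgroup.mem_center_iff.mp
      (h (show (⟨q, hQK hq⟩ : K) ∈ Q.subgroupOf K from hq)) ⟨k, hk⟩)

/-- The span of the `A`-conjugates of `K`. -/
def span (A K : Subgroup X) : Subgroup X := sSup ((fun g => MulAut.conj g • K) '' (A : Set X))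

theorem le_span (A K : Subgroup X) : K ≤ span A K :=
  le_sSup ⟨1, one_mem A, by simp⟩

theorem conj_le_span {A K : Subgroup X} {g : X} (hg : g ∈ A) : MulAut.conj g • K ≤ span A K :=
  le_sSup ⟨g, hg, rfl⟩

theorem span_le {A K M : Subgroup X} (hKM : K ≤ M) (hA : A ≤ normalizer (M : Set X)) :
    span A K ≤ M := by
  refine sSup_le ?_
  rintro _ ⟨g, hg, rfl⟩
  refine (Subgroup.pointwise_smul_le_pointwise_smul_iff.mpr hKM).trans ?_
  exact (Coprime.conj_smul_eq_self_iff.mpr (hA hg)).le

theorem le_normalizer_span (A K : Subgroup X) : A ≤ normalizer (span A K : Set X) := by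
  refine Subgroup.le_normalizer_iff.mpr fun a ha e he => ?_
  have h2 : MulAut.conj a • span A K ≤ span A K := by
    rw [Subgroup.pointwise_smul_subset_iff]
    refine sSup_le ?_
    rintro _ ⟨g, hg, rfl⟩
    rw [← Subgroup.pointwise_smul_subset_iff, ← Coprime.conj_smul_mul]
    exact conj_le_span (mul_mem ha hg)
  refine h2 ?_
  rw [Coprime.mem_conj_smul]
  simpa [mul_assoc] using he

/-- `K` commutes with its distinct `A`-conjugates. -/
def CommConj (A K : Subgroup X) : Prop :=
  ∀ g ∈ A, MulAut.conj g • K ≠ K → ⁅K, MulAut.conj g • K⁆ = ⊥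

theorem CommConj.mono {A B K : Subgroup X} (h : CommConj A K) (hBA : B ≤ A) : CommConj B K :=
  fun g hg => h g (hBA hg)

theorem CommConj.span_normalizes {A K : Subgroup X} (h : CommConj A K) :
    span A K ≤ normalizer (K : Set X) := by
  refine sSup_le ?_
  rintro _ ⟨g, hg, rfl⟩
  by_cases he : MulAut.conj g • K = K
  · show MulAut.conj g • K ≤ _
    rw [he]
    exact le_normalizer
  · refine le_trans ?_ (centralizer_le_normalizer _)
    exact Subgroup.le_centralizer_iff.mp (Subgroup.commutator_eq_bot_iff_le_centralizer.mp (h g hg he))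

theorem CommConj.compIn_span {A K : Subgroup X} (h : CommConj A K) (hK : Cfsg.IsQuasisimple K) :
    CompIn (span A K) K :=
  ⟨le_span A K, ((Subgroup.normal_subgroupOf_iff_le_normalizer (le_span A K)).mpr
    h.span_normalizes).isSubnormal,
    (isQuasisimple_congr (Subgroup.subgroupOfEquivOfLe (le_span A K))).mpr hK⟩

theorem span_perfect {A K : Subgroup X} (hK : Cfsg.IsQuasisimple K) :
    ⁅span A K, span A K⁆ = span A K := by
  refine le_antisymm (Subgroup.commutator_le_self _) (sSup_le ?_)
  rintro _ ⟨g, hg, rfl⟩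
  refine le_of_eq_of_le ?_ (Subgroup.commutator_mono (conj_le_span hg) (conj_le_span hg))
  rw [← Coprime.conj_smul_commutator, quasi_perfect hK]

/-- If `R` does not centralise `K` then the span is `[span, R]`. -/
theorem span_commutator [Finite X] {A K R : Subgroup X} (h : CommConj A K)
    (hK : Cfsg.IsQuasisimple K) (hRA : R ≤ A) (hAR : A ≤ normalizer (R : Set X))
    (hne : ⁅K, R⁆ ≠ ⊥) : ⁅span A K, R⁆ = span A K := by
  set W := span A K
  have hRW : R ≤ normalizer (W : Set X) := hRA.trans (le_normalizer_span A K)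
  have hle : ⁅W, R⁆ ≤ W := Coprime.commutator_le_of_le_normalizer hRW
  refine le_antisymm hle (span_le ?_ ?_)
  · have hsn : ((⁅W, R⁆).subgroupOf W).IsSubnormal :=
      ((Subgroup.normal_subgroupOf_iff_le_normalizer hle).mpr
        (Subgroup.normalizer_commutator_ge_left W R)).isSubnormal
    rcases component_le_or_commutator_eq_bot (h.compIn_span hK).2 hsn with h1 | h1
    · intro x hx
      exact h1 (show (⟨x, le_span A K hx⟩ : W) ∈ K.subgroupOf W from hx)
    · exfalso
      apply hne
      have h2 := congrArg (Subgroup.map W.subtype) h1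
      rw [map_commutator, Subgroup.map_subgroupOf_eq_of_le (le_span A K),
        Subgroup.map_subgroupOf_eq_of_le hle, Subgroup.map_bot] at h2
      apply commutator_eq_bot_of_perfect (quasi_perfect hK)
      rw [Subgroup.commutator_comm]
      exact le_bot_iff.mp ((Subgroup.commutator_mono le_rfl
        (Subgroup.commutator_mono (le_span A K) le_rfl)).trans h2.le)
  · intro a ha
    rw [← Coprime.conj_smul_eq_self_iff, Coprime.conj_smul_commutator,
      Coprime.conj_smul_eq_self_iff.mpr (hAR ha),
      Coprime.conj_smul_eq_self_iff.mpr (le_normalizer_span A K ha)]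

end Cfsg.Agent.Lib.PGroups.CoprimeLayer
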