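import Cfsg.Agent.Lib.PGroups.CoprimeLayer.Component

/-!
The trichotomy in the form of the listed statement.
-/

set_option autoImplicit false

namespace Cfsg.Agent.Lib.PGroups.CoprimeLayer

open Subgroup
open scoped Pointwise

universe u

/-- The trichotomy, with the hypothesis and conclusion written out. -/
theorem quasisimple_trichotomy (hM : ModuleStep.{u}) {X : Type u} [Group X] [Finite X]
    (G R : Subgroup X) (r : ℕ) [Fact r.Prime] (hR : Nat.card ↥R = r)
    (hcop : (Nat.card ↥G).Coprime r) (hnorm : R ≤ Subgroup.normalizer (G : Set X)) (K : Subgroup X)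
    (hKG : K ≤ G) (hKq : Cfsg.IsQuasisimple ↥K)
    (hcomm : ∀ g ∈ R ⊔ (G ⊓ Subgroup.centralizer (R : Set X)),
      K.map (MulAut.conj g).toMonoidHom ≠ K → ⁅K, K.map (MulAut.conj g).toMonoidHom⁆ = ⊥) :
    (K ≤ G ⊓ Subgroup.centralizer (R : Set X) ∧
        Cfsg.IsComponent (K.subgroupOf (G ⊓ Subgroup.centralizer (R : Set X)))) ∨
      Cfsg.IsComponent (K.subgroupOf G) ∨
      ∃ L : Subgroup X, L ≤ G ∧ Cfsg.IsComponent (L.subgroupOf G) ∧
        (∀ a ∈ R, L.map (MulAut.conj a).toMonoidHom = L) ∧ K ≤ L := by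
  rcases component_trichotomy hM hR hcop hnorm hKG hKq
    (fun g hg => by simpa only [Coprime.conj_smul_eq_map] using hcomm g hg) with
    h | h | ⟨L, hL, hRL, hKL⟩
  · exact Or.inl h
  · exact Or.inr (Or.inl h.2)
  · refine Or.inr (Or.inr ⟨L, hL.1, hL.2, fun a ha => ?_, hKL⟩)
    rw [← Coprime.conj_smul_eq_map]
    exact Coprime.conj_smul_eq_self_iff.mpr (hRL ha)

end Cfsg.Agent.Lib.PGroups.CoprimeLayer
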