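import Cfsg.Agent.S3041
import Cfsg.Agent.Lib.PGroups.CoprimeLayer.Layer

/-!
The module input, from the listed statement on coprime fixed-point-free modules.
-/

set_option autoImplicit false
set_option linter.style.haveILetI false

namespace Cfsg.Agent.Lib.PGroups.CoprimeLayer

universe u

theorem moduleStep : ModuleStep.{u} := by
  intro X _ _ G R _ r hsup hr hR hcop q _ V _ _ _ _ ρ hinj hirr hfix
  rcases Cfsg.Agent.S3041.result G R hsup r hr hR hcop (p := q) ρ hinj hirr hfix with h | ⟨_, _, h⟩
  · rw [h]; infer_instance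
  · haveI : Fact (Nat.Prime 2) := ⟨Nat.prime_two⟩
    exact h.1.isNilpotent

end Cfsg.Agent.Lib.PGroups.CoprimeLayer
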